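import Cfsg.Agent.Schur.TwoCert

/-! Generated: transposition paths, a certificate for the 2-part, an orbit chain, commutators. -/

set_option autoImplicit false
set_option maxRecDepth 100000

namespace CfsgLib.U6Mult

/-- pairs of paths: first coordinate, twisted coordinate -/
def pathData : List (List (List (ℕ × ℕ) × List (ℕ × ℕ))) :=
 [[]
 , []
 , [([(3, 5), (7, 3451), (5, 1707), (6, 3120), (2, 3335), (3, 2216), (7, 1494), (4, 3590), (3, 2264), (2, 1446), (1, 9), (0, 881)], [(1, 9), (0, 881)])]
 , [([(6, 170), (7, 691), (5, 1027), (4, 3054), (3, 1623), (2, 3518), (1, 740)], [(7, 169), (2, 2937), (1, 3798), (5, 3502), (3, 2264), (2, 1446), (1, 9), (0, 881)]), ([(3, 5), (7, 3451), (5, 1707), (6, 3120), (2, 3335), (3, 2216), (7, 1494), (4, 3590), (3, 2264), (2, 1446), (1, 9), (0, 881)], [(1, 9), (0, 881)]), ([(7, 160), (5, 2928), (4, 3590), (3, 2264), (2, 1446), (1, 9), (0, 881)], [(7, 160), (5, 2928), (4, 3590), (3, 2264), (2, 1446), (1, 9), (0, 881)])]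
 , [([(7, 245), (3, 3477), (4, 235), (2, 2956), (3, 3619), (7, 2228), (6, 868), (5, 595), (2, 3518), (1, 740)], [(6, 89), (4, 576), (1, 4089), (2, 3685), (3, 319), (7, 2774), (5, 1974), (6, 704), (3, 217), (2, 3495), (1, 2056), (5, 2928), (4, 3590), (3, 2264), (2, 1446), (1, 9), (0, 881)]), ([(3, 5), (7, 3451), (5, 1707), (6, 3120), (2, 3335), (3, 2216), (7, 1494), (4, 3590), (3, 2264), (2, 1446), (1, 9), (0, 881)], [(1, 9), (0, 881)]), ([(7, 160), (5, 2928), (4, 3590), (3, 2264), (2, 1446), (1, 9), (0, 881)], [(7, 160), (5, 2928), (4, 3590), (3, 2264), (2, 1446), (1, 9), (0, 881)])]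
 , [([(5, 1285), (4, 3998), (1, 551), (2, 195), (3, 3993), (7, 2318), (6, 4030), (2, 3495), (1, 2056), (5, 2928), (4, 3590), (3, 2264), (2, 1446), (1, 9), (0, 881)], [(6, 1287), (3, 1072), (7, 4057), (6, 2409), (5, 2928), (4, 3590), (3, 2264), (2, 1446), (1, 9), (0, 881)]), ([(3, 5), (7, 3451), (5, 1707), (6, 3120), (2, 3335), (3, 2216), (7, 1494), (4, 3590), (3, 2264), (2, 1446), (1, 9), (0, 881)], [(1, 9), (0, 881)]), ([(7, 3840), (1, 2480), (5, 2760), (6, 4030), (2, 3495), (1, 2056), (5, 2928), (4, 3590), (3, 2264), (2, 1446), (1, 9), (0, 881)], [(7, 3840), (1, 2480), (5, 2760), (6, 4030), (2, 3495), (1, 2056), (5, 2928), (4, 3590), (3, 2264), (2, 1446), (1, 9), (0, 881)])]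
 , [([(7, 1290), (6, 3802), (5, 4077)], [(6, 1289), (4, 1086), (1, 3929), (2, 3517), (3, 1864), (7, 3233), (6, 2577), (1, 2056), (5, 2928), (4, 3590), (3, 2264), (2, 1446), (1, 9), (0, 881)]), ([(3, 5), (7, 3451), (5, 1707), (6, 3120), (2, 3335), (3, 2216), (7, 1494), (4, 3590), (3, 2264), (2, 1446), (1, 9), (0, 881)], [(1, 9), (0, 881)]), ([(7, 3840), (1, 2480), (5, 2760), (6, 4030), (2, 3495), (1, 2056), (5, 2928), (4, 3590), (3, 2264), (2, 1446), (1, 9), (0, 881)], [(7, 3840), (1, 2480), (5, 2760), (6, 4030), (2, 3495), (1, 2056), (5, 2928), (4, 3590), (3, 2264), (2, 1446), (1, 9), (0, 881)])]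
 , [([(7, 160), (5, 2928), (4, 3590), (3, 2264), (2, 1446), (1, 9), (0, 881)], [(7, 160), (5, 2928), (4, 3590), (3, 2264), (2, 1446), (1, 9), (0, 881)])]
 , [([(6, 1360), (7, 1662), (5, 3502), (3, 2264), (2, 1446), (1, 9), (0, 881)], [(6, 1360), (7, 1662), (5, 3502), (3, 2264), (2, 1446), (1, 9), (0, 881)]), ([(7, 160), (5, 2928), (4, 3590), (3, 2264), (2, 1446), (1, 9), (0, 881)], [(7, 160), (5, 2928), (4, 3590), (3, 2264), (2, 1446), (1, 9), (0, 881)]), ([(7, 3840), (1, 2480), (5, 2760), (6, 4030), (2, 3495), (1, 2056), (5, 2928), (4, 3590), (3, 2264), (2, 1446), (1, 9), (0, 881)], [(7, 3840), (1, 2480), (5, 2760), (6, 4030), (2, 3495), (1, 2056), (5, 2928), (4, 3590), (3, 2264), (2, 1446), (1, 9), (0, 881)])]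
 , [([(5, 3920), (0, 189), (1, 303), (2, 971), (3, 3217), (7, 2566), (6, 1894), (5, 1407), (1, 9), (0, 881)], [(5, 3920), (0, 189), (1, 303), (2, 971), (3, 3217), (7, 2566), (6, 1894), (5, 1407), (1, 9), (0, 881)]), ([(7, 160), (5, 2928), (4, 3590), (3, 2264), (2, 1446), (1, 9), (0, 881)], [(7, 160), (5, 2928), (4, 3590), (3, 2264), (2, 1446), (1, 9), (0, 881)]), ([(7, 3840), (1, 2480), (5, 2760), (6, 4030), (2, 3495), (1, 2056), (5, 2928), (4, 3590), (3, 2264), (2, 1446), (1, 9), (0, 881)], [(7, 3840), (1, 2480), (5, 2760), (6, 4030), (2, 3495), (1, 2056), (5, 2928), (4, 3590), (3, 2264), (2, 1446), (1, 9), (0, 881)])]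
 , [([(2, 1802), (1, 3583), (5, 3171), (6, 910), (7, 160), (5, 2928), (4, 3590), (3, 2264), (2, 1446), (1, 9), (0, 881)], [(7, 2318), (6, 4030), (2, 3495), (1, 2056), (5, 2928), (4, 3590), (3, 2264), (2, 1446), (1, 9), (0, 881)]), ([(3, 5), (7, 3451), (5, 1707), (6, 3120), (2, 3335), (3, 2216), (7, 1494), (4, 3590), (3, 2264), (2, 1446), (1, 9), (0, 881)], [(1, 9), (0, 881)]), ([(1, 3584), (5, 3300), (6, 1663), (3, 1864), (7, 3233), (6, 2577), (1, 2056), (5, 2928), (4, 3590), (3, 2264), (2, 1446), (1, 9), (0, 881)], [(1, 3584), (5, 3300), (6, 1663), (3, 1864), (7, 3233), (6, 2577), (1, 2056), (5, 2928), (4, 3590), (3, 2264), (2, 1446), (1, 9), (0, 881)])]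
 , [([(7, 2309), (5, 4021), (6, 2755), (2, 2541), (3, 1719), (7, 3422), (4, 3054), (3, 1623), (2, 3518), (1, 740)], [(7, 2311), (6, 4023), (5, 3502), (3, 2264), (2, 1446), (1, 9), (0, 881)]), ([(3, 5), (7, 3451), (5, 1707), (6, 3120), (2, 3335), (3, 2216), (7, 1494), (4, 3590), (3, 2264), (2, 1446), (1, 9), (0, 881)], [(1, 9), (0, 881)]), ([(1, 3584), (5, 3300), (6, 1663), (3, 1864), (7, 3233), (6, 2577), (1, 2056), (5, 2928), (4, 3590), (3, 2264), (2, 1446), (1, 9), (0, 881)], [(1, 3584), (5, 3300), (6, 1663), (3, 1864), (7, 3233), (6, 2577), (1, 2056), (5, 2928), (4, 3590), (3, 2264), (2, 1446), (1, 9), (0, 881)])]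
 , [([(7, 3840), (1, 2480), (5, 2760), (6, 4030), (2, 3495), (1, 2056), (5, 2928), (4, 3590), (3, 2264), (2, 1446), (1, 9), (0, 881)], [(7, 3840), (1, 2480), (5, 2760), (6, 4030), (2, 3495), (1, 2056), (5, 2928), (4, 3590), (3, 2264), (2, 1446), (1, 9), (0, 881)])]
 , [([(1, 159), (5, 259), (6, 3822), (7, 4057), (6, 2409), (5, 2928), (4, 3590), (3, 2264), (2, 1446), (1, 9), (0, 881)], [(7, 231), (3, 1623), (2, 3518), (1, 740)]), ([(3, 5), (7, 3451), (5, 1707), (6, 3120), (2, 3335), (3, 2216), (7, 1494), (4, 3590), (3, 2264), (2, 1446), (1, 9), (0, 881)], [(1, 9), (0, 881)]), ([(7, 224), (4, 1616), (3, 3049)], [(7, 224), (4, 1616), (3, 3049)])]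
 , [([(5, 127), (6, 1289), (4, 1086), (1, 3929), (2, 3517), (3, 1864), (7, 3233), (6, 2577), (1, 2056), (5, 2928), (4, 3590), (3, 2264), (2, 1446), (1, 9), (0, 881)], [(6, 151), (5, 654), (0, 2069), (1, 2806), (2, 2922), (3, 1072), (7, 4057), (6, 2409), (5, 2928), (4, 3590), (3, 2264), (2, 1446), (1, 9), (0, 881)]), ([(3, 5), (7, 3451), (5, 1707), (6, 3120), (2, 3335), (3, 2216), (7, 1494), (4, 3590), (3, 2264), (2, 1446), (1, 9), (0, 881)], [(1, 9), (0, 881)]), ([(7, 224), (4, 1616), (3, 3049)], [(7, 224), (4, 1616), (3, 3049)])]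
 , [([(4, 2544), (3, 1097), (7, 4000), (6, 704), (3, 217), (2, 3495), (1, 2056), (5, 2928), (4, 3590), (3, 2264), (2, 1446), (1, 9), (0, 881)], [(4, 2544), (3, 1097), (7, 4000), (6, 704), (3, 217), (2, 3495), (1, 2056), (5, 2928), (4, 3590), (3, 2264), (2, 1446), (1, 9), (0, 881)]), ([(7, 160), (5, 2928), (4, 3590), (3, 2264), (2, 1446), (1, 9), (0, 881)], [(7, 160), (5, 2928), (4, 3590), (3, 2264), (2, 1446), (1, 9), (0, 881)]), ([(1, 3584), (5, 3300), (6, 1663), (3, 1864), (7, 3233), (6, 2577), (1, 2056), (5, 2928), (4, 3590), (3, 2264), (2, 1446), (1, 9), (0, 881)], [(1, 3584), (5, 3300), (6, 1663), (3, 1864), (7, 3233), (6, 2577), (1, 2056), (5, 2928), (4, 3590), (3, 2264), (2, 1446), (1, 9), (0, 881)])]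
 , [([(2, 2032), (0, 3333), (1, 4070), (5, 3706), (6, 1249), (7, 1494), (4, 3590), (3, 2264), (2, 1446), (1, 9), (0, 881)], [(2, 2032), (0, 3333), (1, 4070), (5, 3706), (6, 1249), (7, 1494), (4, 3590), (3, 2264), (2, 1446), (1, 9), (0, 881)]), ([(7, 160), (5, 2928), (4, 3590), (3, 2264), (2, 1446), (1, 9), (0, 881)], [(7, 160), (5, 2928), (4, 3590), (3, 2264), (2, 1446), (1, 9), (0, 881)]), ([(1, 3584), (5, 3300), (6, 1663), (3, 1864), (7, 3233), (6, 2577), (1, 2056), (5, 2928), (4, 3590), (3, 2264), (2, 1446), (1, 9), (0, 881)], [(1, 3584), (5, 3300), (6, 1663), (3, 1864), (7, 3233), (6, 2577), (1, 2056), (5, 2928), (4, 3590), (3, 2264), (2, 1446), (1, 9), (0, 881)])]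
 , [([(6, 94), (3, 583), (7, 2478), (1, 1230), (5, 1974), (6, 704), (3, 217), (2, 3495), (1, 2056), (5, 2928), (4, 3590), (3, 2264), (2, 1446), (1, 9), (0, 881)], [(6, 166), (4, 401), (1, 2806), (2, 2922), (3, 1072), (7, 4057), (6, 2409), (5, 2928), (4, 3590), (3, 2264), (2, 1446), (1, 9), (0, 881)]), ([(7, 160), (5, 2928), (4, 3590), (3, 2264), (2, 1446), (1, 9), (0, 881)], [(7, 160), (5, 2928), (4, 3590), (3, 2264), (2, 1446), (1, 9), (0, 881)]), ([(1, 9), (0, 881)], [(4, 13), (2, 2922), (3, 1072), (7, 4057), (6, 2409), (5, 2928), (4, 3590), (3, 2264), (2, 1446), (1, 9), (0, 881)])]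
 , [([(6, 89), (4, 576), (1, 4089), (2, 3685), (3, 319), (7, 2774), (5, 1974), (6, 704), (3, 217), (2, 3495), (1, 2056), (5, 2928), (4, 3590), (3, 2264), (2, 1446), (1, 9), (0, 881)], [(6, 246), (7, 984), (1, 2056), (5, 2928), (4, 3590), (3, 2264), (2, 1446), (1, 9), (0, 881)]), ([(7, 160), (5, 2928), (4, 3590), (3, 2264), (2, 1446), (1, 9), (0, 881)], [(7, 160), (5, 2928), (4, 3590), (3, 2264), (2, 1446), (1, 9), (0, 881)]), ([(1, 9), (0, 881)], [(4, 13), (2, 2922), (3, 1072), (7, 4057), (6, 2409), (5, 2928), (4, 3590), (3, 2264), (2, 1446), (1, 9), (0, 881)])]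
 , [([(3, 3984), (7, 2311), (6, 4023), (5, 3502), (3, 2264), (2, 1446), (1, 9), (0, 881)], [(3, 3984), (7, 2311), (6, 4023), (5, 3502), (3, 2264), (2, 1446), (1, 9), (0, 881)]), ([(7, 3840), (1, 2480), (5, 2760), (6, 4030), (2, 3495), (1, 2056), (5, 2928), (4, 3590), (3, 2264), (2, 1446), (1, 9), (0, 881)], [(7, 3840), (1, 2480), (5, 2760), (6, 4030), (2, 3495), (1, 2056), (5, 2928), (4, 3590), (3, 2264), (2, 1446), (1, 9), (0, 881)]), ([(7, 224), (4, 1616), (3, 3049)], [(7, 224), (4, 1616), (3, 3049)])]
 , [([(7, 3952), (2, 528), (0, 1983), (1, 1230), (5, 1974), (6, 704), (3, 217), (2, 3495), (1, 2056), (5, 2928), (4, 3590), (3, 2264), (2, 1446), (1, 9), (0, 881)], [(7, 3952), (2, 528), (0, 1983), (1, 1230), (5, 1974), (6, 704), (3, 217), (2, 3495), (1, 2056), (5, 2928), (4, 3590), (3, 2264), (2, 1446), (1, 9), (0, 881)]), ([(7, 3840), (1, 2480), (5, 2760), (6, 4030), (2, 3495), (1, 2056), (5, 2928), (4, 3590), (3, 2264), (2, 1446), (1, 9), (0, 881)], [(7, 3840), (1, 2480), (5, 2760), (6, 4030), (2, 3495), (1, 2056), (5, 2928), (4,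 3590), (3, 2264), (2, 1446), (1, 9), (0, 881)]), ([(7, 224), (4, 1616), (3, 3049)], [(7, 224), (4, 1616), (3, 3049)])]
 , [([(1, 3584), (5, 3300), (6, 1663), (3, 1864), (7, 3233), (6, 2577), (1, 2056), (5, 2928), (4, 3590), (3, 2264), (2, 1446), (1, 9), (0, 881)], [(1, 3584), (5, 3300), (6, 1663), (3, 1864), (7, 3233), (6, 2577), (1, 2056), (5, 2928), (4, 3590), (3, 2264), (2, 1446), (1, 9), (0, 881)])]
 ]

/-- rules -/
def rules : List (List ℕ × List ℕ) :=
 [([0, 0], [])
 , ([0, 1], [1, 0])
 , ([1, 1], [])
 , ([0, 2], [2, 0])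
 , ([1, 2], [2, 1])
 , ([2, 2], [])
 , ([0, 3], [3, 0])
 , ([1, 3], [3, 1])
 , ([2, 3], [3, 2])
 , ([3, 3], [])
 , ([0, 4], [4, 0])
 , ([1, 4], [4, 1])
 , ([2, 4], [4, 2])
 , ([3, 4], [4, 3])
 , ([4, 4], [])
 , ([0, 5], [5, 0])
 , ([1, 5], [5, 1])
 , ([2, 5], [5, 2])
 , ([3, 5], [5, 3])
 , ([4, 5], [5, 4])
 , ([5, 5], [])
 , ([0, 6], [6, 0])
 , ([1, 6], [6, 1])
 , ([2, 6], [6, 2])
 , ([3, 6], [6, 3])
 , ([4, 6], [6, 4])
 , ([5, 6], [6, 5])
 , ([6, 6], [])
 , ([0, 7], [7, 0])
 , ([1, 7], [7, 1])
 , ([2, 7], [7, 2])
 , ([3, 7], [7, 3])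
 , ([4, 7], [7, 4])
 , ([5, 7], [7, 5])
 , ([6, 7], [7, 6])
 , ([7, 7], [])
 , ([0, 8], [8, 0])
 , ([1, 8], [8, 1])
 , ([2, 8], [8, 2])
 , ([3, 8], [8, 3])
 , ([4, 8], [8, 4])
 , ([5, 8], [8, 5])
 , ([6, 8], [8, 6])
 , ([7, 8], [8, 7])
 , ([8, 8], [])
 , ([0, 9], [9, 0])
 , ([1, 9], [9, 1])
 , ([2, 9], [9, 2])
 , ([3, 9], [9, 3])
 , ([4, 9], [9, 4])
 , ([5, 9], [9, 5])
 , ([6, 9], [9, 6])
 , ([7, 9], [9, 7])
 , ([8, 9], [9, 8])
 , ([9, 9], [])
 , ([0, 10], [10, 0])
 , ([1, 10], [10, 1])
 , ([2, 10], [10, 2])
 , ([3, 10], [10, 3])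
 , ([4, 10], [10, 4])
 , ([5, 10], [10, 5])
 , ([6, 10], [10, 6, 2, 1, 0])
 , ([7, 10], [10, 7])
 , ([8, 10], [10, 8, 3, 0])
 , ([9, 10], [10, 9, 4, 3, 1, 0])
 , ([10, 10], [])
 , ([0, 11], [11, 0])
 , ([1, 11], [11, 1])
 , ([2, 11], [11, 2])
 , ([3, 11], [11, 3])
 , ([4, 11], [11, 4])
 , ([5, 11], [11, 5, 2, 1, 0])
 , ([6, 11], [11, 6])
 , ([7, 11], [11, 7])
 , ([8, 11], [11, 8, 4])
 , ([9, 11], [11, 9, 3, 1])
 , ([10, 11], [11, 10])
 , ([11, 11], [])
 , ([0, 12], [12, 0])
 , ([1, 12], [12, 1])
 , ([2, 12], [12, 2])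
 , ([3, 12], [12, 3])
 , ([4, 12], [12, 4])
 , ([5, 12], [12, 5])
 , ([6, 12], [12, 6])
 , ([7, 12], [12, 7])
 , ([8, 12], [12, 8])
 , ([9, 12], [12, 9])
 , ([10, 12], [12, 10, 5, 2])
 , ([11, 12], [12, 11, 6, 2])
 , ([12, 12], [])
 , ([0, 13], [13, 0])
 , ([1, 13], [13, 1])
 , ([2, 13], [13, 2])
 , ([3, 13], [13, 3])
 , ([4, 13], [13, 4, 2, 1, 0])
 , ([5, 13], [13, 5])
 , ([6, 13], [13, 6])
 , ([7, 13], [13, 7, 3, 2])
 , ([8, 13], [13, 8, 5, 0])
 , ([9, 13], [13, 9, 6, 1])
 , ([10, 13], [13, 10])
 , ([11, 13], [13, 11])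
 , ([12, 13], [13, 12])
 , ([13, 13], [])
 , ([0, 14], [14, 0])
 , ([1, 14], [14, 1])
 , ([2, 14], [14, 2])
 , ([3, 14], [14, 3, 2, 1, 0])
 , ([4, 14], [14, 4])
 , ([5, 14], [14, 5])
 , ([6, 14], [14, 6])
 , ([7, 14], [14, 7, 4, 2])
 , ([8, 14], [14, 8, 6])
 , ([9, 14], [14, 9, 6, 5, 1])
 , ([10, 14], [14, 10])
 , ([11, 14], [14, 11])
 , ([12, 14], [14, 12])
 , ([13, 14], [14, 13])
 , ([14, 14], [])
 , ([0, 15], [15, 0])
 , ([1, 15], [15, 1])
 , ([2, 15], [15, 2])
 , ([3, 15], [15, 3])
 , ([4, 15], [15, 4])
 , ([5, 15], [15, 5, 3, 0])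
 , ([6, 15], [15, 6, 4])
 , ([7, 15], [15, 7])
 , ([8, 15], [15, 8])
 , ([9, 15], [15, 9, 7, 1, 0])
 , ([10, 15], [15, 10])
 , ([11, 15], [15, 11])
 , ([12, 15], [15, 12, 8, 7])
 , ([13, 15], [15, 13, 10, 0])
 , ([14, 15], [15, 14, 11])
 , ([15, 15], [])
 , ([0, 16], [16, 0])
 , ([1, 16], [16, 1])
 , ([2, 16], [16, 2])
 , ([3, 16], [16, 3])
 , ([4, 16], [16, 4])
 , ([5, 16], [16, 5, 4, 3, 1, 0])
 , ([6, 16], [16, 6, 3, 1])
 , ([7, 16], [16, 7])
 , ([8, 16], [16, 8, 7, 1, 0])
 , ([9, 16], [16, 9])
 , ([10, 16], [16, 10])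
 , ([11, 16], [16, 11])
 , ([12, 16], [16, 12, 9, 7])
 , ([13, 16], [16, 13, 11, 1])
 , ([14, 16], [16, 14, 11, 10, 1])
 , ([15, 16], [16, 15])
 , ([16, 16], [])
 , ([17, 0], [0, 17])
 , ([17, 1], [1, 17])
 , ([17, 2], [7, 3, 2, 17])
 , ([17, 3], [3, 17])
 , ([17, 4], [7, 4, 1, 0, 17])
 , ([17, 5], [8, 5, 0, 17])
 , ([17, 6], [9, 6, 1, 17])
 , ([17, 7], [7, 17])
 , ([17, 8], [8, 17])
 , ([17, 9], [9, 17])
 , ([17, 10], [15, 10, 0, 17])
 , ([17, 11], [16, 11, 1, 17])
 , ([17, 12], [12, 17])
 , ([17, 15], [15, 17])
 , ([17, 16], [16, 17])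
 , ([18, 0], [0, 18])
 , ([18, 1], [1, 18])
 , ([18, 2], [7, 4, 3, 2, 1, 0, 18])
 , ([18, 3], [7, 3, 1, 0, 18])
 , ([18, 4], [7, 4, 1, 0, 18])
 , ([18, 5], [9, 5, 18])
 , ([18, 6], [9, 8, 6, 1, 18])
 , ([18, 7], [7, 18])
 , ([18, 8], [8, 18])
 , ([18, 9], [9, 18])
 , ([18, 10], [16, 10, 18])
 , ([18, 11], [16, 15, 11, 1, 18])
 , ([18, 12], [12, 18])
 , ([18, 15], [15, 18])
 , ([18, 16], [16, 18])
 , ([19, 0], [0, 19])
 , ([19, 1], [1, 19])
 , ([19, 2], [2, 19])
 , ([19, 3], [5, 3, 0, 19])
 , ([19, 4], [6, 4, 19])
 , ([19, 5], [5, 19])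
 , ([19, 6], [6, 19])
 , ([19, 7], [12, 8, 7, 19])
 , ([19, 8], [8, 19])
 , ([19, 9], [12, 9, 1, 0, 19])
 , ([19, 10], [13, 10, 0, 19])
 , ([19, 11], [14, 11, 19])
 , ([19, 12], [12, 19])
 , ([19, 13], [13, 19])
 , ([19, 14], [14, 19])
 , ([20, 0], [0, 20])
 , ([20, 1], [1, 20])
 , ([20, 2], [2, 20])
 , ([20, 3], [6, 5, 3, 1, 0, 20])
 , ([20, 4], [5, 4, 1, 20])
 , ([20, 5], [5, 20])
 , ([20, 6], [6, 20])
 , ([20, 7], [12, 9, 8, 7, 1, 0, 20])
 , ([20, 8], [12, 8, 1, 0, 20])
 , ([20, 9], [12, 9, 1, 0, 20])
 , ([20, 10], [14, 10, 1, 20])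
 , ([20, 11], [14, 13, 11, 1, 20])
 , ([20, 12], [12, 20])
 , ([20, 13], [13, 20])
 , ([20, 14], [14, 20])
 , ([21, 0], [0, 21])
 , ([21, 1], [1, 21])
 , ([21, 2], [2, 21])
 , ([21, 3], [3, 21])
 , ([21, 4], [4, 21])
 , ([21, 5], [10, 5, 2, 21])
 , ([21, 6], [11, 6, 2, 21])
 , ([21, 7], [7, 21])
 , ([21, 8], [15, 8, 7, 21])
 , ([21, 9], [16, 9, 7, 21])
 , ([21, 10], [10, 21])
 , ([21, 11], [11, 21])
 , ([21, 13], [13, 21])
 , ([21, 14], [14, 21])
 , ([21, 15], [15, 21])
 , ([21, 16], [16, 21])
 ]

/-- rewritings -/
def eqs : List (List ℕ × List (ℕ × ℕ × Bool) × List (ℕ × ℕ × Bool)) :=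
 [([0, 3, 14], [(0, 6, true), (1, 105, true), (0, 108, true), (4, 0, true)], [(1, 108, true), (0, 105, true), (1, 6, true), (2, 3, true), (3, 1, true), (4, 0, true)])
 , ([1, 3, 14], [(0, 7, true), (1, 106, true), (0, 108, true), (4, 1, true), (3, 2, true)], [(1, 108, true), (0, 106, true), (1, 7, true), (2, 4, true), (3, 2, true)])
 , ([3, 3, 14], [(0, 9, true)], [(1, 108, true), (0, 108, true), (4, 6, true), (3, 7, true), (2, 8, true), (1, 9, true), (3, 3, true), (2, 4, true), (1, 5, true), (2, 1, true), (1, 2, true), (1, 0, true)])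
 , ([3, 4, 13], [(0, 13, true), (1, 94, true), (0, 95, true), (4, 6, true), (3, 7, true), (2, 8, true)], [(1, 95, true), (0, 94, true), (1, 13, true)])
 , ([3, 4, 14], [(0, 13, true), (1, 108, true), (0, 109, true)], [(1, 109, true), (0, 108, true), (4, 10, true), (3, 11, true), (2, 12, true), (1, 13, true)])
 , ([0, 5, 15], [(0, 15, true), (1, 120, true), (0, 125, true), (3, 0, true)], [(1, 125, true), (0, 120, true), (1, 15, true), (2, 6, true), (3, 0, true)])
 , ([0, 5, 16], [(0, 15, true), (1, 136, true), (0, 141, true), (5, 0, true)], [(1, 141, true), (0, 136, true), (1, 15, true), (2, 10, true), (3, 6, true), (4, 1, true), (5, 0, true)])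
 , ([1, 5, 15], [(0, 16, true), (1, 121, true), (0, 125, true), (3, 1, true)], [(1, 125, true), (0, 121, true), (1, 16, true), (2, 7, true)])
 , ([1, 5, 16], [(0, 16, true), (1, 137, true), (0, 141, true), (5, 1, true), (4, 2, true)], [(1, 141, true), (0, 137, true), (1, 16, true), (2, 11, true), (3, 7, true), (4, 2, true)])
 , ([3, 5, 14], [(0, 18, true), (1, 108, true), (0, 110, true)], [(1, 110, true), (0, 108, true), (4, 15, true), (3, 16, true), (2, 17, true), (1, 18, true)])
 , ([3, 5, 16], [(0, 18, true), (1, 139, true), (0, 141, true), (5, 6, true), (4, 7, true), (3, 9, true)], [(1, 141, true), (0, 139, true), (1, 18, true), (2, 13, true), (3, 9, true)])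
 , ([5, 5, 15], [(0, 20, true)], [(1, 125, true), (0, 125, true), (3, 15, true), (2, 18, true), (1, 20, true), (2, 6, true), (1, 9, true), (1, 0, true)])
 , ([5, 5, 16], [(0, 20, true)], [(1, 141, true), (0, 141, true), (5, 15, true), (4, 16, true), (3, 18, true), (2, 19, true), (1, 20, true), (4, 10, true), (3, 11, true), (2, 13, true), (1, 14, true), (3, 6, true), (2, 7, true), (1, 9, true), (2, 1, true), (1, 2, true), (1, 0, true)])
 , ([0, 6, 15], [(0, 21, true), (1, 120, true), (0, 126, true)], [(1, 126, true), (0, 120, true), (1, 21, true), (2, 10, true)])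
 , ([3, 6, 14], [(0, 24, true), (1, 108, true), (0, 111, true)], [(1, 111, true), (0, 108, true), (4, 21, true), (3, 22, true), (2, 23, true), (1, 24, true)])
 , ([5, 6, 15], [(0, 26, true), (1, 125, true), (0, 126, true), (2, 19, true)], [(1, 126, true), (0, 125, true), (3, 21, true), (2, 24, true), (1, 26, true), (4, 10, true), (3, 13, true)])
 , ([5, 6, 16], [(0, 26, true), (1, 141, true), (0, 142, true), (3, 16, true), (2, 18, true), (4, 11, true), (3, 13, true), (5, 7, true), (4, 9, true), (4, 2, true)], [(1, 142, true), (0, 141, true), (5, 21, true), (4, 22, true), (3, 24, true), (2, 25, true), (1, 26, true), (6, 6, true), (5, 7, true), (4, 9, true), (5, 1, true), (4, 2, true)])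
 , ([6, 6, 15], [(0, 27, true)], [(1, 126, true), (0, 126, true), (2, 25, true), (1, 27, true), (1, 14, true)])
 , ([6, 6, 16], [(0, 27, true)], [(1, 142, true), (0, 142, true), (3, 22, true), (2, 24, true), (1, 27, true), (2, 7, true), (1, 9, true), (1, 2, true)])
 , ([3, 7, 14], [(0, 31, true), (1, 108, true), (0, 112, true), (3, 8, true), (4, 5, true)], [(1, 112, true), (0, 108, true), (4, 28, true), (3, 29, true), (2, 30, true), (1, 31, true), (5, 10, true), (4, 11, true), (3, 12, true), (2, 13, true), (6, 3, true), (5, 4, true), (4, 5, true)])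
 , ([5, 7, 13], [(0, 33, true), (1, 96, true), (0, 98, true), (3, 17, true), (2, 18, true)], [(1, 98, true), (0, 96, true), (1, 33, true)])
 , ([5, 7, 14], [(0, 33, true), (1, 110, true), (0, 112, true), (3, 17, true), (2, 19, true)], [(1, 112, true), (0, 110, true), (1, 33, true)])
 , ([5, 7, 15], [(0, 33, true), (1, 125, true), (0, 127, true)], [(1, 127, true), (0, 125, true), (3, 28, true), (2, 31, true), (1, 33, true)])
 , ([5, 7, 16], [(0, 33, true), (1, 141, true), (0, 143, true)], [(1, 143, true), (0, 141, true), (5, 28, true), (4, 29, true), (3, 31, true), (2, 32, true), (1, 33, true)])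
 , ([6, 7, 13], [(0, 34, true), (1, 97, true), (0, 98, true), (3, 23, true), (2, 24, true)], [(1, 98, true), (0, 97, true), (1, 34, true)])
 , ([6, 7, 14], [(0, 34, true), (1, 111, true), (0, 112, true), (3, 23, true), (2, 25, true)], [(1, 112, true), (0, 111, true), (1, 34, true)])
 , ([6, 7, 15], [(0, 34, true), (1, 126, true), (0, 127, true)], [(1, 127, true), (0, 126, true), (2, 32, true), (1, 34, true)])
 , ([6, 7, 16], [(0, 34, true), (1, 142, true), (0, 143, true)], [(1, 143, true), (0, 142, true), (3, 29, true), (2, 31, true), (1, 34, true)])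
 , ([7, 7, 13], [(0, 35, true)], [(1, 98, true), (0, 98, true), (3, 30, true), (2, 31, true), (1, 35, true), (2, 8, true), (1, 9, true), (1, 5, true)])
 , ([7, 7, 14], [(0, 35, true)], [(1, 112, true), (0, 112, true), (3, 30, true), (2, 32, true), (1, 35, true), (2, 12, true), (1, 14, true), (1, 5, true)])
 , ([3, 8, 14], [(0, 39, true), (1, 108, true), (0, 113, true)], [(1, 113, true), (0, 108, true), (4, 36, true), (3, 37, true), (2, 38, true), (1, 39, true), (5, 21, true), (4, 22, true), (3, 23, true), (2, 24, true)])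
 , ([5, 8, 14], [(0, 41, true), (1, 110, true), (0, 113, true)], [(1, 113, true), (0, 110, true), (1, 41, true), (2, 26, true)])
 , ([5, 8, 15], [(0, 41, true), (1, 125, true), (0, 128, true)], [(1, 128, true), (0, 125, true), (3, 36, true), (2, 39, true), (1, 41, true)])
 , ([5, 8, 16], [(0, 41, true), (1, 141, true), (0, 144, true), (4, 15, true), (3, 16, true), (5, 10, true), (4, 11, true), (6, 6, true), (5, 7, true), (7, 1, true), (6, 2, true), (6, 0, true)], [(1, 144, true), (0, 141, true), (5, 36, true), (4, 37, true), (3, 39, true), (2, 40, true), (1, 41, true), (6, 28, true), (5, 29, true), (4, 31, true), (3, 32, true), (2, 33, true), (7, 1, true), (6, 2, true), (6, 0, true)])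
 , ([6, 8, 15], [(0, 42, true), (1, 126, true), (0, 128, true)], [(1, 128, true), (0, 126, true), (2, 40, true), (1, 42, true)])
 , ([6, 8, 16], [(0, 42, true), (1, 142, true), (0, 144, true), (4, 21, true), (3, 22, true), (5, 6, true), (4, 7, true), (6, 1, true), (5, 2, true)], [(1, 144, true), (0, 142, true), (3, 37, true), (2, 39, true), (1, 42, true), (4, 29, true), (3, 31, true), (2, 34, true), (5, 2, true)])
 , ([8, 8, 13], [(0, 44, true)], [(1, 99, true), (0, 99, true), (3, 36, true), (2, 41, true), (1, 44, true), (2, 15, true), (1, 20, true), (1, 0, true)])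
 , ([8, 8, 14], [(0, 44, true)], [(1, 113, true), (0, 113, true), (2, 42, true), (1, 44, true), (1, 27, true)])
 , ([8, 8, 16], [(0, 44, true)], [(1, 144, true), (0, 144, true), (4, 36, true), (3, 37, true), (2, 43, true), (1, 44, true), (3, 28, true), (2, 29, true), (1, 35, true), (2, 1, true), (1, 2, true), (1, 0, true)])
 , ([3, 9, 14], [(0, 48, true), (1, 108, true), (0, 114, true), (4, 7, true), (5, 4, true), (6, 2, true)], [(1, 114, true), (0, 108, true), (4, 45, true), (3, 46, true), (2, 47, true), (1, 48, true), (5, 21, true), (4, 22, true), (3, 23, true), (2, 24, true), (6, 15, true), (5, 16, true), (4, 17, true), (3, 18, true), (7, 1, true), (6, 2, true)])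
 , ([5, 9, 15], [(0, 50, true), (1, 125, true), (0, 129, true), (4, 15, true), (3, 16, true), (5, 6, true), (4, 7, true), (6, 0, true)], [(1, 129, true), (0, 125, true), (3, 45, true), (2, 48, true), (1, 50, true), (4, 28, true), (3, 31, true), (2, 33, true), (5, 1, true), (6, 0, true)])
 , ([5, 9, 16], [(0, 50, true), (1, 141, true), (0, 145, true)], [(1, 145, true), (0, 141, true), (5, 45, true), (4, 46, true), (3, 48, true), (2, 49, true), (1, 50, true)])
 , ([6, 9, 15], [(0, 51, true), (1, 126, true), (0, 129, true), (4, 21, true), (3, 22, true), (5, 10, true), (4, 11, true)], [(1, 129, true), (0, 126, true), (2, 49, true), (1, 51, true), (3, 32, true), (2, 34, true)])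
 , ([6, 9, 16], [(0, 51, true), (1, 142, true), (0, 145, true)], [(1, 145, true), (0, 142, true), (3, 46, true), (2, 48, true), (1, 51, true)])
 , ([8, 9, 13], [(0, 53, true), (1, 99, true), (0, 100, true), (3, 37, true), (2, 42, true), (4, 16, true)], [(1, 100, true), (0, 99, true), (3, 45, true), (2, 50, true), (1, 53, true), (4, 21, true), (3, 26, true), (5, 1, true)])
 , ([8, 9, 14], [(0, 53, true), (1, 113, true), (0, 114, true), (4, 37, true), (3, 41, true), (2, 42, true), (5, 22, true), (4, 26, true), (3, 27, true)], [(1, 114, true), (0, 113, true), (2, 51, true), (1, 53, true), (3, 27, true)])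
 , ([8, 9, 15], [(0, 53, true), (1, 128, true), (0, 129, true), (4, 36, true), (3, 37, true), (2, 43, true)], [(1, 129, true), (0, 128, true), (1, 53, true)])
 , ([8, 9, 16], [(0, 53, true), (1, 144, true), (0, 145, true)], [(1, 145, true), (0, 144, true), (4, 45, true), (3, 46, true), (2, 52, true), (1, 53, true)])
 , ([9, 9, 13], [(0, 54, true)], [(1, 100, true), (0, 100, true), (3, 46, true), (2, 51, true), (1, 54, true), (2, 22, true), (1, 27, true), (1, 2, true)])
 , ([9, 9, 14], [(0, 54, true)], [(1, 114, true), (0, 114, true), (4, 46, true), (3, 50, true), (2, 51, true), (1, 54, true), (3, 22, true), (2, 26, true), (1, 27, true), (2, 16, true), (1, 20, true), (1, 2, true)])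
 , ([3, 10, 14], [(0, 58, true), (1, 108, true), (0, 115, true)], [(1, 115, true), (0, 108, true), (4, 55, true), (3, 56, true), (2, 57, true), (1, 58, true)])
 , ([5, 10, 15], [(0, 60, true), (1, 125, true), (0, 130, true)], [(1, 130, true), (0, 125, true), (3, 55, true), (2, 58, true), (1, 60, true)])
 , ([5, 10, 16], [(0, 60, true), (1, 141, true), (0, 146, true)], [(1, 146, true), (0, 141, true), (5, 55, true), (4, 56, true), (3, 58, true), (2, 59, true), (1, 60, true)])
 , ([6, 10, 11], [(0, 61, true), (4, 66, true), (3, 67, true), (2, 68, true), (1, 72, true), (0, 76, true)], [(1, 76, true), (0, 72, true), (1, 61, true)])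
 , ([6, 10, 12], [(0, 61, true), (4, 78, true), (3, 79, true), (2, 80, true), (1, 84, true), (0, 88, true), (3, 23, true), (2, 26, true), (4, 5, true)], [(1, 88, true), (0, 84, true), (1, 61, true), (5, 15, true), (4, 16, true), (3, 17, true), (6, 3, true), (5, 4, true), (4, 5, true)])
 , ([6, 10, 13], [(0, 61, true), (4, 91, true), (3, 92, true), (2, 93, true), (1, 97, true), (0, 101, true)], [(1, 101, true), (0, 97, true), (1, 61, true)])
 , ([6, 10, 14], [(0, 61, true), (4, 105, true), (3, 106, true), (2, 107, true), (1, 111, true), (0, 115, true)], [(1, 115, true), (0, 111, true), (1, 61, true)])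
 , ([6, 10, 15], [(0, 61, true), (4, 120, true), (3, 121, true), (2, 122, true), (1, 126, true), (0, 130, true)], [(1, 130, true), (0, 126, true), (2, 59, true), (1, 61, true), (5, 10, true), (4, 11, true), (3, 12, true)])
 , ([6, 10, 16], [(0, 61, true), (4, 136, true), (3, 137, true), (2, 138, true), (1, 142, true), (0, 146, true), (4, 4, true), (5, 2, true)], [(1, 146, true), (0, 142, true), (3, 56, true), (2, 58, true), (1, 61, true), (5, 6, true), (4, 7, true), (3, 8, true), (6, 1, true), (5, 2, true)])
 , ([7, 10, 12], [(0, 62, true), (1, 85, true), (0, 88, true), (3, 30, true), (2, 33, true)], [(1, 88, true), (0, 85, true), (1, 62, true)])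
 , ([7, 10, 13], [(0, 62, true), (1, 98, true), (0, 101, true)], [(1, 101, true), (0, 98, true), (3, 57, true), (2, 58, true), (1, 62, true)])
 , ([7, 10, 14], [(0, 62, true), (1, 112, true), (0, 115, true)], [(1, 115, true), (0, 112, true), (3, 57, true), (2, 59, true), (1, 62, true)])
 , ([8, 10, 11], [(0, 63, true), (3, 66, true), (2, 69, true), (1, 74, true), (0, 76, true)], [(1, 76, true), (0, 74, true), (2, 59, true), (1, 63, true), (4, 10, true), (3, 13, true)])
 , ([8, 10, 12], [(0, 63, true), (3, 78, true), (2, 81, true), (1, 86, true), (0, 88, true), (3, 38, true), (2, 41, true), (4, 8, true)], [(1, 88, true), (0, 86, true), (1, 63, true), (4, 15, true), (3, 18, true), (5, 3, true)])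
 , ([8, 10, 13], [(0, 63, true), (3, 91, true), (2, 94, true), (1, 99, true), (0, 101, true), (4, 6, true), (5, 0, true)], [(1, 101, true), (0, 99, true), (3, 55, true), (2, 60, true), (1, 63, true), (4, 15, true), (3, 18, true), (5, 0, true)])
 , ([8, 10, 14], [(0, 63, true), (3, 105, true), (2, 108, true), (1, 113, true), (0, 115, true), (7, 0, true)], [(1, 115, true), (0, 113, true), (2, 61, true), (1, 63, true), (4, 21, true), (3, 24, true), (5, 3, true), (6, 1, true), (7, 0, true)])
 , ([8, 10, 15], [(0, 63, true), (3, 120, true), (2, 123, true), (1, 128, true), (0, 130, true)], [(1, 130, true), (0, 128, true), (1, 63, true)])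
 , ([8, 10, 16], [(0, 63, true), (3, 136, true), (2, 139, true), (1, 144, true), (0, 146, true), (5, 6, true), (4, 7, true), (6, 0, true)], [(1, 146, true), (0, 144, true), (4, 55, true), (3, 56, true), (2, 62, true), (1, 63, true), (4, 28, true), (3, 31, true), (5, 1, true), (6, 0, true)])
 , ([9, 10, 11], [(0, 64, true), (5, 66, true), (4, 67, true), (3, 69, true), (2, 70, true), (1, 75, true), (0, 76, true), (4, 11, true), (3, 13, true), (5, 7, true), (4, 9, true), (4, 2, true)], [(1, 76, true), (0, 75, true), (3, 56, true), (2, 58, true), (1, 64, true), (6, 6, true), (5, 7, true), (4, 9, true), (5, 1, true), (4, 2, true)])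
 , ([9, 10, 12], [(0, 64, true), (5, 78, true), (4, 79, true), (3, 81, true), (2, 82, true), (1, 87, true), (0, 88, true), (3, 47, true), (2, 50, true), (4, 12, true), (5, 8, true)], [(1, 88, true), (0, 87, true), (1, 64, true), (6, 15, true), (5, 16, true), (4, 18, true), (3, 19, true), (7, 3, true), (6, 4, true)])
 , ([9, 10, 13], [(0, 64, true), (5, 91, true), (4, 92, true), (3, 94, true), (2, 95, true), (1, 100, true), (0, 101, true), (4, 11, true), (5, 4, true), (6, 2, true), (6, 6, true), (5, 8, true), (7, 1, true), (8, 0, true)], [(1, 101, true), (0, 100, true), (3, 56, true), (2, 61, true), (1, 64, true), (6, 21, true), (5, 22, true), (4, 24, true), (3, 25, true), (7, 3, true), (6, 4, true), (8, 1, true), (7, 2, true), (7, 0, true)])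
 , ([9, 10, 14], [(0, 64, true), (5, 105, true), (4, 106, true), (3, 108, true), (2, 109, true), (1, 114, true), (0, 115, true), (5, 11, true), (6, 7, true), (7, 4, true), (8, 2, true), (8, 1, true), (9, 0, true)], [(1, 115, true), (0, 114, true), (4, 56, true), (3, 60, true), (2, 61, true), (1, 64, true), (6, 21, true), (5, 22, true), (4, 24, true), (3, 25, true), (7, 3, true), (6, 4, true), (8, 1, true), (7, 2, true), (7, 0, true), (6, 17, true), (5, 18, true), (4, 19, true)])
 , ([9, 10, 15], [(0, 64, true), (5, 120, true), (4, 121, true), (3, 123, true), (2, 124, true), (1, 129, true), (0, 130, true), (5, 10, true), (4, 11, true), (6, 6, true), (5, 7, true), (7, 1, true), (6, 2, true), (6, 0, true)], [(1, 130, true), (0, 129, true), (4, 55, true), (3, 56, true), (2, 62, true), (1, 64, true), (6, 28, true), (5, 29, true), (4, 31, true), (3, 32, true), (7, 1, true), (6, 2, true), (6, 0, true)])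
 , ([9, 10, 16], [(0, 64, true), (5, 136, true), (4, 137, true), (3, 139, true), (2, 140, true), (1, 145, true), (0, 146, true)], [(1, 146, true), (0, 145, true), (1, 64, true)])
 , ([10, 10, 12], [(0, 65, true)], [(1, 88, true), (0, 88, true), (3, 57, true), (2, 60, true), (1, 65, true), (2, 17, true), (1, 20, true), (1, 5, true)])
 , ([6, 11, 15], [(0, 72, true), (1, 126, true), (0, 131, true)], [(1, 131, true), (0, 126, true), (2, 70, true), (1, 72, true)])
 , ([6, 11, 16], [(0, 72, true), (1, 142, true), (0, 147, true)], [(1, 147, true), (0, 142, true), (3, 67, true), (2, 69, true), (1, 72, true)])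
 , ([7, 11, 12], [(0, 73, true), (1, 85, true), (0, 89, true), (3, 30, true), (2, 34, true)], [(1, 89, true), (0, 85, true), (1, 73, true)])
 , ([8, 11, 12], [(0, 74, true), (2, 82, true), (1, 86, true), (0, 89, true), (3, 38, true), (2, 42, true), (4, 12, true)], [(1, 89, true), (0, 86, true), (1, 74, true), (3, 25, true)])
 , ([8, 11, 13], [(0, 74, true), (2, 95, true), (1, 99, true), (0, 102, true), (4, 10, true), (5, 3, true), (6, 1, true), (7, 0, true)], [(1, 102, true), (0, 99, true), (3, 66, true), (2, 71, true), (1, 74, true), (3, 19, true), (7, 0, true)])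
 , ([8, 11, 14], [(0, 74, true), (2, 109, true), (1, 113, true), (0, 116, true)], [(1, 116, true), (0, 113, true), (2, 72, true), (1, 74, true), (3, 25, true)])
 , ([8, 11, 15], [(0, 74, true), (2, 124, true), (1, 128, true), (0, 131, true)], [(1, 131, true), (0, 128, true), (1, 74, true)])
 , ([8, 11, 16], [(0, 74, true), (2, 140, true), (1, 144, true), (0, 147, true), (5, 10, true), (4, 11, true)], [(1, 147, true), (0, 144, true), (4, 66, true), (3, 67, true), (2, 73, true), (1, 74, true), (3, 32, true)])
 , ([9, 11, 12], [(0, 75, true), (3, 79, true), (2, 81, true), (1, 87, true), (0, 89, true), (3, 47, true), (2, 51, true), (4, 8, true)], [(1, 89, true), (0, 87, true), (1, 75, true), (4, 22, true), (3, 24, true), (5, 4, true)])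
 , ([9, 11, 13], [(0, 75, true), (3, 92, true), (2, 94, true), (1, 100, true), (0, 102, true), (4, 7, true), (5, 2, true)], [(1, 102, true), (0, 100, true), (3, 67, true), (2, 72, true), (1, 75, true), (4, 22, true), (3, 24, true), (5, 2, true)])
 , ([9, 11, 14], [(0, 75, true), (3, 106, true), (2, 108, true), (1, 114, true), (0, 116, true), (5, 7, true), (6, 4, true), (7, 2, true), (7, 1, true)], [(1, 116, true), (0, 114, true), (4, 67, true), (3, 71, true), (2, 72, true), (1, 75, true), (4, 22, true), (3, 24, true), (5, 16, true), (4, 18, true), (6, 4, true), (7, 2, true), (7, 1, true)])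
 , ([9, 11, 15], [(0, 75, true), (3, 121, true), (2, 123, true), (1, 129, true), (0, 131, true), (5, 6, true), (4, 7, true), (6, 1, true), (5, 2, true)], [(1, 131, true), (0, 129, true), (4, 66, true), (3, 67, true), (2, 73, true), (1, 75, true), (4, 29, true), (3, 31, true), (5, 2, true)])
 , ([9, 11, 16], [(0, 75, true), (3, 137, true), (2, 139, true), (1, 145, true), (0, 147, true)], [(1, 147, true), (0, 145, true), (1, 75, true)])
 , ([10, 11, 12], [(0, 76, true), (1, 88, true), (0, 89, true), (3, 57, true), (2, 61, true), (6, 3, true), (5, 4, true), (4, 5, true), (5, 15, true), (4, 16, true), (6, 3, true), (5, 4, true)], [(1, 89, true), (0, 88, true), (3, 68, true), (2, 71, true), (1, 76, true), (6, 3, true), (5, 4, true), (4, 5, true), (5, 21, true), (4, 22, true), (3, 26, true), (6, 3, true), (5, 4, true)])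
 , ([11, 11, 12], [(0, 77, true)], [(1, 89, true), (0, 89, true), (3, 68, true), (2, 72, true), (1, 77, true), (2, 23, true), (1, 27, true), (1, 5, true)])
 , ([8, 12, 13], [(0, 86, true), (1, 99, true), (0, 103, true)], [(1, 103, true), (0, 99, true), (3, 78, true), (2, 83, true), (1, 86, true)])
 , ([8, 12, 14], [(0, 86, true), (1, 113, true), (0, 117, true)], [(1, 117, true), (0, 113, true), (2, 84, true), (1, 86, true)])
 , ([8, 12, 16], [(0, 86, true), (1, 144, true), (0, 148, true), (3, 43, true), (4, 35, true)], [(1, 148, true), (0, 144, true), (4, 78, true), (3, 79, true), (2, 85, true), (1, 86, true), (5, 45, true), (4, 46, true), (3, 52, true), (2, 53, true), (6, 28, true), (5, 29, true), (4, 35, true)])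
 , ([10, 12, 13], [(0, 88, true), (3, 93, true), (2, 96, true), (1, 101, true), (0, 103, true)], [(1, 103, true), (0, 101, true), (1, 88, true)])
 , ([10, 12, 14], [(0, 88, true), (3, 107, true), (2, 110, true), (1, 115, true), (0, 117, true)], [(1, 117, true), (0, 115, true), (1, 88, true)])
 , ([10, 12, 15], [(0, 88, true), (3, 122, true), (2, 125, true), (1, 130, true), (0, 132, true), (3, 62, true), (2, 63, true), (5, 28, true), (4, 31, true), (6, 15, true), (5, 18, true), (7, 6, true), (6, 9, true), (6, 0, true)], [(1, 132, true), (0, 130, true), (1, 88, true), (4, 38, true), (3, 41, true), (5, 30, true), (4, 33, true)])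
 , ([10, 12, 16], [(0, 88, true), (3, 138, true), (2, 141, true), (1, 146, true), (0, 148, true), (3, 62, true), (2, 64, true), (7, 28, true), (6, 29, true), (5, 31, true), (4, 32, true), (8, 15, true), (7, 16, true), (6, 18, true), (5, 19, true), (9, 10, true), (8, 11, true), (7, 13, true), (6, 14, true), (8, 6, true), (7, 7, true), (6, 9, true), (7, 1, true), (6, 2, true), (6, 0, true)], [(1, 148, true), (0, 146, true), (1, 88, true), (4, 47, true), (3, 50, true), (5, 30, true), (4, 33, true)])
 , ([11, 12, 13], [(0, 89, true), (3, 93, true), (2, 97, true), (1, 102, true), (0, 103, true)], [(1, 103, true), (0, 102, true), (1, 89, true)])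
 , ([11, 12, 14], [(0, 89, true), (3, 107, true), (2, 111, true), (1, 116, true), (0, 117, true)], [(1, 117, true), (0, 116, true), (1, 89, true)])
 , ([11, 12, 15], [(0, 89, true), (3, 122, true), (2, 126, true), (1, 131, true), (0, 132, true), (3, 73, true), (2, 74, true), (4, 32, true), (5, 25, true), (6, 14, true)], [(1, 132, true), (0, 131, true), (1, 89, true), (4, 38, true), (3, 42, true), (5, 30, true), (4, 34, true)])
 , ([11, 12, 16], [(0, 89, true), (3, 138, true), (2, 142, true), (1, 147, true), (0, 148, true), (3, 73, true), (2, 75, true), (5, 29, true), (4, 31, true), (6, 22, true), (5, 24, true), (7, 7, true), (6, 9, true), (6, 2, true)], [(1, 148, true), (0, 147, true), (1, 89, true), (4, 47, true), (3, 51, true), (5, 30, true), (4, 34, true)])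
 , ([12, 12, 15], [(0, 90, true)], [(1, 132, true), (0, 132, true), (3, 85, true), (2, 86, true), (1, 90, true), (2, 43, true), (1, 44, true), (1, 35, true)])
 , ([12, 12, 16], [(0, 90, true)], [(1, 148, true), (0, 148, true), (3, 85, true), (2, 87, true), (1, 90, true), (2, 52, true), (1, 54, true), (1, 35, true)])
 , ([8, 13, 16], [(0, 99, true), (3, 136, true), (2, 141, true), (1, 144, true), (0, 149, true), (3, 37, true), (4, 29, true), (5, 2, true), (5, 15, true), (6, 10, true), (7, 6, true), (8, 1, true), (9, 0, true)], [(1, 149, true), (0, 144, true), (4, 91, true), (3, 92, true), (2, 98, true), (1, 99, true), (4, 28, true), (3, 33, true), (5, 6, true), (6, 3, true), (7, 1, true), (8, 0, true), (7, 67, true), (6, 68, true), (5, 69, true), (4, 71, true), (3, 73, true), (2, 74, true), (4, 32, true), (5, 19, true), (9, 6, true), (8, 7, true), (7, 8, true), (10, 3, true), (9, 4, true), (8, 5, true), (9, 1, true), (8, 2, true), (8, 1, true)])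
 , ([10, 13, 16], [(0, 101, true), (1, 146, true), (0, 149, true), (3, 56, true)], [(1, 149, true), (0, 146, true), (1, 101, true), (2, 76, true)])
 , ([12, 13, 15], [(0, 103, true), (1, 132, true), (0, 133, true), (3, 78, true), (2, 88, true), (6, 36, true), (5, 38, true), (4, 41, true), (7, 28, true), (6, 30, true), (5, 33, true)], [(1, 133, true), (0, 132, true), (3, 98, true), (2, 99, true), (1, 103, true), (5, 28, true), (4, 33, true), (6, 6, true), (7, 3, true), (8, 55, true), (7, 57, true), (6, 58, true), (5, 60, true), (4, 62, true), (3, 63, true), (6, 28, true), (5, 31, true), (7, 15, true), (6, 18, true), (8, 6, true), (7, 9, true), (7, 3, true), (8, 0, true)])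
 , ([12, 13, 16], [(0, 103, true), (1, 148, true), (0, 149, true), (3, 79, true), (2, 89, true), (6, 46, true), (5, 47, true), (4, 51, true), (7, 29, true), (6, 30, true), (5, 34, true)], [(1, 149, true), (0, 148, true), (3, 98, true), (2, 100, true), (1, 103, true), (5, 29, true), (4, 34, true), (6, 7, true), (7, 4, true), (8, 67, true), (7, 68, true), (6, 69, true), (5, 72, true), (4, 73, true), (3, 75, true), (6, 29, true), (5, 31, true), (7, 22, true), (6, 24, true), (8, 7, true), (7, 9, true), (7, 4, true), (8, 2, true)])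
 , ([13, 13, 15], [(0, 104, true)], [(1, 133, true), (0, 133, true), (3, 91, true), (2, 101, true), (1, 104, true), (2, 55, true), (1, 65, true), (1, 0, true)])
 , ([13, 13, 16], [(0, 104, true)], [(1, 149, true), (0, 149, true), (3, 92, true), (2, 102, true), (1, 104, true), (2, 67, true), (1, 77, true), (1, 2, true)])
 , ([8, 14, 16], [(0, 113, true), (2, 142, true), (1, 144, true), (0, 150, true), (4, 37, true), (5, 29, true), (6, 2, true), (6, 21, true), (7, 6, true), (8, 1, true)], [(1, 150, true), (0, 144, true), (4, 105, true), (3, 106, true), (2, 112, true), (1, 113, true), (3, 34, true), (8, 66, true), (7, 67, true), (6, 68, true), (5, 70, true), (4, 72, true), (3, 73, true), (2, 74, true), (4, 32, true), (5, 25, true), (6, 14, true), (8, 55, true), (7, 56, true), (6, 57, true), (5, 61, true), (4, 62, true), (3, 63, true), (6, 28, true), (5, 31, true), (7, 21, true), (6, 24, true), (8, 3, true), (9, 1, true), (10, 0, true), (9, 4, true), (8, 5, true), (8, 2, true), (8, 1, true)])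
 , ([12, 14, 15], [(0, 117, true), (1, 132, true), (0, 134, true), (2, 89, true), (5, 38, true), (4, 42, true), (6, 30, true), (5, 34, true)], [(1, 134, true), (0, 132, true), (3, 112, true), (2, 113, true), (1, 117, true), (4, 34, true), (7, 68, true), (6, 70, true), (5, 72, true), (4, 73, true), (3, 74, true), (5, 32, true), (6, 25, true), (7, 14, true)])
 , ([12, 14, 16], [(0, 117, true), (1, 148, true), (0, 150, true), (4, 79, true), (3, 88, true), (2, 89, true), (5, 57, true), (4, 61, true), (8, 3, true), (7, 4, true), (6, 5, true), (7, 15, true), (6, 16, true), (8, 3, true), (7, 4, true), (9, 1, true), (8, 2, true), (8, 45, true), (7, 47, true), (6, 50, true), (5, 51, true), (9, 28, true), (8, 30, true), (7, 33, true), (6, 34, true)], [(1, 150, true), (0, 148, true), (3, 112, true), (2, 114, true), (1, 117, true), (6, 29, true), (5, 33, true), (4, 34, true), (7, 11, true), (8, 4, true), (9, 67, true), (8, 68, true), (7, 70, true), (6, 71, true), (5, 72, true), (4, 73, true), (3, 75, true), (6, 29, true), (5, 31, true), (7, 22,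 true), (6, 24, true), (8, 16, true), (7, 18, true), (9, 4, true), (10, 2, true), (10, 10, true), (9, 12, true), (8, 13, true), (11, 3, true), (10, 5, true), (10, 1, true), (11, 55, true), (10, 56, true), (9, 58, true), (8, 59, true), (7, 60, true), (6, 61, true), (5, 62, true), (4, 64, true), (9, 28, true), (8, 29, true), (7, 31, true), (6, 32, true), (10, 21, true), (9, 22, true), (8, 24, true), (7, 25, true), (11, 3, true), (10, 4, true), (12, 1, true), (11, 2, true), (11, 0, true), (10, 17, true), (9, 18, true), (8, 19, true), (11, 12, true), (10, 13, true), (9, 14, true), (10, 8, true), (9, 9, true), (11, 1, true), (10, 2, true)])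
 , ([13, 14, 15], [(0, 118, true), (1, 133, true), (0, 134, true), (2, 102, true)], [(1, 134, true), (0, 133, true), (3, 105, true), (2, 115, true), (1, 118, true), (4, 66, true), (3, 76, true)])
 , ([13, 14, 16], [(0, 118, true), (1, 149, true), (0, 150, true), (4, 92, true), (3, 101, true), (2, 102, true), (5, 67, true), (4, 76, true), (3, 77, true), (4, 2, true)], [(1, 150, true), (0, 149, true), (3, 106, true), (2, 116, true), (1, 118, true), (4, 67, true), (3, 77, true), (3, 56, true), (4, 2, true)])
 , ([14, 14, 15], [(0, 119, true)], [(1, 134, true), (0, 134, true), (2, 116, true), (1, 119, true), (1, 77, true)])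
 , ([14, 14, 16], [(0, 119, true)], [(1, 150, true), (0, 150, true), (4, 106, true), (3, 115, true), (2, 116, true), (1, 119, true), (3, 67, true), (2, 76, true), (1, 77, true), (2, 56, true), (1, 65, true), (1, 2, true)])
 , ([8, 15, 16], [(0, 128, true), (1, 144, true), (0, 151, true)], [(1, 151, true), (0, 144, true), (4, 120, true), (3, 121, true), (2, 127, true), (1, 128, true)])
 , ([9, 15, 16], [(0, 129, true), (4, 136, true), (3, 137, true), (2, 143, true), (1, 145, true), (0, 151, true)], [(1, 151, true), (0, 145, true), (1, 129, true)])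
 , ([12, 15, 15], [(0, 132, true), (3, 127, true), (2, 128, true), (1, 132, true), (0, 135, true), (2, 43, true), (1, 44, true), (1, 35, true)], [(1, 135, true)])
 , ([12, 15, 16], [(0, 132, true), (3, 143, true), (2, 144, true), (1, 148, true), (0, 151, true), (4, 43, true), (5, 35, true), (6, 28, true), (5, 29, true)], [(1, 151, true), (0, 148, true), (3, 127, true), (2, 129, true), (1, 132, true), (4, 52, true), (3, 53, true), (5, 35, true), (6, 28, true), (5, 29, true)])
 , ([13, 15, 15], [(0, 133, true), (3, 120, true), (2, 130, true), (1, 133, true), (0, 135, true), (2, 55, true), (1, 65, true), (1, 0, true)], [(1, 135, true)])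
 , ([13, 15, 16], [(0, 133, true), (3, 136, true), (2, 146, true), (1, 149, true), (0, 151, true), (4, 56, true)], [(1, 151, true), (0, 149, true), (3, 121, true), (2, 131, true), (1, 133, true), (4, 66, true), (3, 76, true), (5, 1, true)])
 , ([14, 15, 15], [(0, 134, true), (2, 131, true), (1, 134, true), (0, 135, true), (1, 77, true)], [(1, 135, true)])
 , ([14, 15, 16], [(0, 134, true), (2, 147, true), (1, 150, true), (0, 151, true), (5, 67, true), (4, 76, true), (3, 77, true)], [(1, 151, true), (0, 150, true), (4, 121, true), (3, 130, true), (2, 131, true), (1, 134, true), (3, 77, true)])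
 , ([12, 16, 16], [(0, 148, true), (3, 143, true), (2, 145, true), (1, 148, true), (0, 152, true), (2, 52, true), (1, 54, true), (1, 35, true)], [(1, 152, true)])
 , ([13, 16, 16], [(0, 149, true), (3, 137, true), (2, 147, true), (1, 149, true), (0, 152, true), (2, 67, true), (1, 77, true), (1, 2, true)], [(1, 152, true)])
 , ([14, 16, 16], [(0, 150, true), (4, 137, true), (3, 146, true), (2, 147, true), (1, 150, true), (0, 152, true), (3, 67, true), (2, 76, true), (1, 77, true), (2, 56, true), (1, 65, true), (1, 2, true)], [(1, 152, true)])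
 , ([17, 2, 12], [(0, 155, true), (3, 165, true), (2, 80, true), (1, 81, true), (0, 85, true)], [(1, 80, true), (0, 165, true), (1, 155, true)])
 , ([17, 5, 5], [(0, 158, true), (3, 158, true), (2, 36, true), (1, 41, true), (0, 44, true), (1, 15, true), (0, 20, true), (0, 0, true)], [(1, 20, true)])
 , ([17, 5, 11], [(0, 158, true), (3, 164, true), (2, 136, true), (1, 141, true), (0, 144, true), (4, 15, true), (3, 16, true), (5, 10, true), (4, 11, true), (6, 6, true), (5, 7, true), (7, 1, true), (6, 2, true), (6, 0, true), (6, 66, true), (5, 69, true), (4, 70, true), (3, 71, true), (2, 73, true), (1, 74, true), (3, 32, true), (4, 19, true), (8, 10, true), (7, 11, true), (6, 12, true), (5, 14, true), (7, 6, true), (6, 7, true), (5, 8, true), (8, 0, true), (7, 2, true)], [(1, 71, true), (0, 164, true), (3, 158, true), (2, 37, true), (3, 16, true), (6, 155, true), (5, 28, true), (4, 29, true), (3, 33, true), (6, 6, true), (5, 7, true), (7, 3, true), (6, 4, true), (9, 154, true), (8, 1, true), (7, 2, true), (8, 153, true), (7, 0, true)])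
 , ([17, 5, 15], [(0, 158, true), (3, 166, true), (2, 120, true), (1, 125, true), (0, 128, true), (4, 0, true)], [(1, 125, true), (0, 166, true), (1, 158, true), (4, 156, true), (3, 6, true), (5, 153, true), (4, 0, true)])
 , ([17, 5, 16], [(0, 158, true), (3, 167, true), (2, 136, true), (1, 141, true), (0, 144, true), (4, 15, true), (3, 16, true), (5, 10, true), (4, 11, true), (6, 6, true), (5, 7, true), (7, 1, true), (6, 2, true), (6, 0, true)], [(1, 141, true), (0, 167, true), (1, 158, true), (4, 157, true), (3, 28, true), (2, 33, true), (4, 10, true), (5, 1, true), (6, 0, true), (6, 156, true), (5, 7, true), (7, 154, true), (6, 2, true), (6, 153, true)])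
 , ([17, 6, 6], [(0, 159, true), (3, 159, true), (2, 46, true), (1, 51, true), (0, 54, true), (1, 22, true), (0, 27, true), (0, 2, true)], [(1, 27, true)])
 , ([17, 6, 15], [(0, 159, true), (3, 166, true), (2, 121, true), (1, 126, true), (0, 129, true), (4, 21, true), (3, 22, true), (5, 10, true), (4, 11, true), (6, 1, true), (5, 2, true)], [(1, 126, true), (0, 166, true), (1, 159, true), (4, 157, true), (3, 29, true), (2, 34, true), (4, 11, true), (5, 2, true)])
 , ([17, 6, 16], [(0, 159, true), (3, 167, true), (2, 137, true), (1, 142, true), (0, 145, true), (4, 2, true)], [(1, 142, true), (0, 167, true), (1, 159, true), (4, 156, true), (3, 7, true), (5, 154, true), (4, 2, true)])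
 , ([17, 8, 16], [(0, 161, true), (1, 167, true), (0, 144, true)], [(1, 144, true), (0, 167, true), (1, 161, true), (2, 160, true), (3, 154, true), (4, 153, true)])
 , ([17, 10, 10], [(0, 163, true), (3, 163, true), (2, 120, true), (1, 130, true), (0, 135, true), (1, 55, true), (0, 65, true), (0, 0, true)], [(1, 65, true)])
 , ([17, 10, 11], [(0, 163, true), (3, 164, true), (2, 136, true), (1, 146, true), (0, 151, true), (3, 66, true), (2, 76, true), (4, 1, true)], [(1, 76, true), (0, 164, true), (3, 163, true), (2, 121, true), (1, 131, true), (3, 56, true)])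
 , ([17, 10, 12], [(0, 163, true), (3, 165, true), (2, 78, true), (1, 88, true)], [(1, 88, true), (0, 165, true), (1, 163, true), (0, 132, true), (3, 62, true), (2, 63, true), (5, 28, true), (4, 31, true), (6, 0, true), (6, 158, true), (5, 39, true), (4, 43, true), (3, 44, true), (4, 18, true), (7, 155, true), (6, 28, true), (5, 31, true), (4, 33, true), (3, 35, true), (5, 6, true), (4, 9, true), (4, 3, true)])
 , ([17, 11, 11], [(0, 164, true), (3, 164, true), (2, 137, true), (1, 147, true), (0, 152, true), (1, 67, true), (0, 77, true), (0, 2, true)], [(1, 77, true)])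
 , ([17, 11, 12], [(0, 164, true), (3, 165, true), (2, 79, true), (1, 89, true)], [(1, 89, true), (0, 165, true), (1, 164, true), (0, 148, true), (3, 73, true), (2, 75, true), (5, 29, true), (4, 31, true), (6, 2, true), (6, 159, true), (5, 48, true), (4, 52, true), (3, 54, true), (4, 24, true), (7, 155, true), (6, 29, true), (5, 31, true), (4, 34, true), (3, 35, true), (5, 7, true), (4, 9, true), (4, 4, true)])
 , ([17, 12, 15], [(0, 165, true), (1, 166, true), (0, 132, true)], [(1, 132, true), (0, 166, true), (1, 165, true), (2, 161, true), (3, 160, true)])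
 , ([17, 12, 16], [(0, 165, true), (1, 167, true), (0, 148, true)], [(1, 148, true), (0, 167, true), (1, 165, true), (2, 162, true), (3, 160, true)])
 , ([18, 5, 11], [(0, 173, true), (2, 179, true), (1, 141, true), (0, 145, true), (6, 120, true), (5, 121, true), (4, 123, true), (3, 124, true), (2, 125, true), (1, 129, true), (5, 15, true), (4, 16, true), (6, 6, true), (5, 7, true), (7, 0, true), (6, 11, true), (5, 13, true), (7, 7, true), (6, 9, true), (6, 2, true), (6, 66, true), (5, 70, true), (4, 71, true), (3, 73, true), (2, 75, true), (5, 29, true), (4, 31, true), (6, 16, true), (5, 18, true), (7, 4, true), (8, 2, true), (8, 10, true), (7, 12, true), (6, 13, true), (9, 0, true)], [(1, 71, true), (0, 179, true), (4, 173, true), (3, 46, true), (4, 16, true), (6, 170, true), (5, 29, true), (4, 33, true), (6, 11, true), (7, 7, true), (8, 4, true), (9, 2, true), (10, 169, true), (9, 1, true), (11, 168, true), (10, 0, true)])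
 , ([18, 5, 15], [(0, 173, true), (2, 181, true), (1, 125, true), (0, 129, true), (4, 15, true), (3, 16, true), (5, 6, true), (4, 7, true), (6, 0, true)], [(1, 125, true), (0, 181, true), (1, 173, true), (3, 171, true), (2, 33, true), (7, 168, true), (6, 0, true)])
 , ([18, 5, 16], [(0, 173, true), (2, 182, true), (1, 141, true), (0, 145, true)], [(1, 141, true), (0, 182, true), (1, 173, true), (3, 172, true), (2, 33, true), (7, 171, true), (6, 28, true), (5, 29, true), (4, 32, true), (3, 33, true), (2, 35, true), (5, 6, true), (4, 7, true), (6, 1, true), (5, 2, true), (5, 0, true), (5, 169, true), (6, 168, true)])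
 , ([18, 6, 15], [(0, 174, true), (4, 181, true), (3, 121, true), (2, 126, true), (1, 128, true), (0, 129, true), (4, 36, true), (3, 37, true), (2, 43, true), (5, 21, true), (4, 22, true), (6, 10, true), (5, 11, true), (7, 1, true), (6, 2, true)], [(1, 126, true), (0, 181, true), (1, 174, true), (5, 172, true), (4, 29, true), (3, 34, true), (5, 11, true), (6, 2, true)])
 , ([18, 6, 16], [(0, 174, true), (4, 182, true), (3, 137, true), (2, 142, true), (1, 144, true), (0, 145, true), (5, 21, true), (4, 22, true), (6, 6, true), (5, 7, true), (7, 1, true), (6, 2, true), (6, 1, true)], [(1, 142, true), (0, 182, true), (1, 174, true), (5, 171, true), (4, 29, true), (3, 34, true), (5, 7, true), (6, 2, true), (7, 169, true), (6, 1, true)])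
 , ([18, 8, 16], [(0, 176, true), (1, 182, true), (0, 144, true)], [(1, 144, true), (0, 182, true), (1, 176, true), (2, 175, true), (3, 169, true), (4, 168, true)])
 , ([18, 10, 12], [(0, 178, true), (2, 180, true), (1, 88, true)], [(1, 88, true), (0, 180, true), (1, 178, true), (0, 148, true), (3, 62, true), (2, 64, true), (7, 28, true), (6, 29, true), (5, 31, true), (4, 32, true), (9, 173, true), (8, 45, true), (7, 46, true), (6, 48, true), (5, 49, true), (4, 52, true), (3, 54, true), (7, 15, true), (6, 16, true), (5, 18, true), (4, 19, true), (9, 170, true), (8, 28, true), (7, 29, true), (6, 31, true), (5, 32, true), (4, 33, true), (3, 35, true), (7, 10, true), (6, 11, true), (5, 13, true), (4, 14, true), (6, 6, true), (5, 7, true), (4, 9, true), (5, 3, true), (4, 4, true), (6, 1, true), (5, 2, true), (5, 0, true)])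
 , ([18, 11, 12], [(0, 179, true), (4, 180, true), (3, 79, true), (2, 89, true)], [(1, 89, true), (0, 180, true), (1, 179, true), (0, 148, true), (3, 127, true), (2, 129, true), (1, 132, true), (4, 52, true), (3, 53, true), (5, 35, true), (6, 28, true), (5, 29, true), (7, 66, true), (6, 67, true), (5, 73, true), (4, 74, true), (3, 75, true), (6, 37, true), (5, 39, true), (7, 11, true), (6, 13, true), (8, 29, true), (7, 31, true), (6, 32, true), (9, 2, true), (9, 1, true), (11, 174, true), (10, 45, true), (9, 46, true), (8, 48, true), (7, 49, true), (6, 52, true), (5, 53, true), (4, 54, true), (9, 36, true), (8, 37, true), (7, 39, true), (6, 40, true), (5, 43, true), (4, 44, true), (8, 21, true), (7, 22, true), (6, 24, true), (5, 25, true), (9, 1, true), (8, 2, true), (9, 170, true), (8, 28, true), (7, 31, true), (6, 32, true), (5, 34, true), (4, 35, true), (7, 10, true), (6, 13, true), (5, 14, true), (6, 6, true), (5, 9, true), (5, 3, true), (6, 1, true), (7, 0, true)])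
 , ([18, 12, 15], [(0, 180, true), (1, 181, true), (0, 132, true)], [(1, 132, true), (0, 181, true), (1, 180, true), (2, 176, true), (3, 175, true)])
 , ([18, 12, 16], [(0, 180, true), (1, 182, true), (0, 148, true)], [(1, 148, true), (0, 182, true), (1, 180, true), (2, 177, true), (3, 175, true)])
 , ([19, 3, 14], [(0, 186, true), (3, 197, true), (2, 105, true), (1, 108, true), (0, 110, true), (5, 0, true)], [(1, 108, true), (0, 197, true), (1, 186, true), (4, 185, true), (3, 3, true), (5, 184, true), (4, 1, true), (6, 183, true), (5, 0, true)])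
 , ([19, 7, 7], [(0, 190, true), (3, 190, true), (2, 85, true), (1, 86, true), (0, 90, true), (1, 43, true), (0, 44, true), (0, 35, true)], [(1, 35, true)])
 , ([19, 7, 10], [(0, 190, true), (3, 193, true), (2, 98, true), (1, 99, true), (0, 103, true), (4, 28, true), (3, 33, true), (5, 6, true), (6, 3, true), (7, 55, true), (6, 57, true), (5, 58, true), (4, 60, true), (3, 62, true), (2, 63, true), (5, 28, true), (4, 31, true), (6, 15, true), (5, 18, true), (7, 6, true), (6, 9, true), (6, 3, true), (7, 0, true)], [(1, 62, true), (0, 193, true), (3, 190, true), (2, 78, true), (1, 88, true), (5, 36, true), (4, 38, true), (3, 41, true), (6, 28, true), (5, 30, true), (4, 33, true)])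
 , ([19, 7, 11], [(0, 190, true), (3, 194, true), (2, 112, true), (1, 113, true), (0, 117, true), (3, 34, true), (6, 68, true), (5, 70, true), (4, 72, true), (3, 73, true), (2, 74, true), (4, 32, true), (5, 25, true), (6, 14, true)], [(1, 73, true), (0, 194, true), (2, 190, true), (1, 89, true), (4, 38, true), (3, 42, true), (5, 30, true), (4, 34, true)])
 , ([19, 7, 13], [(0, 190, true), (3, 196, true), (2, 98, true), (1, 99, true), (0, 103, true), (4, 28, true), (3, 33, true), (5, 6, true), (6, 3, true)], [(1, 98, true), (0, 196, true), (1, 190, true), (4, 186, true), (7, 185, true), (6, 3, true)])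
 , ([19, 7, 14], [(0, 190, true), (3, 197, true), (2, 112, true), (1, 113, true), (0, 117, true), (3, 34, true)], [(1, 112, true), (0, 197, true), (1, 190, true), (4, 187, true), (6, 185, true)])
 , ([19, 8, 10], [(0, 191, true), (1, 193, true), (0, 99, true), (3, 55, true), (2, 60, true), (1, 63, true), (4, 15, true), (3, 18, true), (5, 0, true)], [(1, 63, true), (0, 193, true), (3, 191, true), (2, 36, true), (4, 186, true), (3, 15, true), (4, 6, true), (5, 0, true), (5, 183, true)])
 , ([19, 8, 11], [(0, 191, true), (1, 194, true), (0, 113, true), (2, 72, true), (1, 74, true), (3, 25, true)], [(1, 74, true), (0, 194, true), (2, 191, true), (3, 187, true)])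
 , ([19, 8, 13], [(0, 191, true), (1, 196, true), (0, 99, true)], [(1, 99, true), (0, 196, true), (1, 191, true), (2, 188, true), (3, 183, true)])
 , ([19, 8, 14], [(0, 191, true), (1, 197, true), (0, 113, true)], [(1, 113, true), (0, 197, true), (1, 191, true), (2, 189, true)])
 , ([19, 10, 10], [(0, 193, true), (3, 193, true), (2, 91, true), (1, 101, true), (0, 104, true), (1, 55, true), (0, 65, true), (0, 0, true)], [(1, 65, true)])
 , ([19, 10, 11], [(0, 193, true), (3, 194, true), (2, 105, true), (1, 115, true), (0, 118, true), (3, 66, true), (2, 76, true)], [(1, 76, true), (0, 194, true), (2, 193, true), (1, 102, true)])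
 , ([19, 11, 11], [(0, 194, true), (2, 194, true), (1, 116, true), (0, 119, true), (0, 77, true)], [(1, 77, true)])
 , ([20, 3, 14], [(0, 201, true), (5, 212, true), (4, 105, true), (3, 106, true), (2, 108, true), (1, 110, true), (0, 111, true), (6, 1, true), (5, 2, true), (5, 0, true)], [(1, 108, true), (0, 212, true), (1, 201, true), (6, 200, true), (5, 3, true), (4, 4, true), (7, 199, true), (6, 1, true), (5, 2, true), (6, 198, true), (5, 0, true)])
 , ([20, 7, 13], [(0, 205, true), (6, 211, true), (5, 91, true), (4, 92, true), (3, 98, true), (2, 99, true), (1, 100, true), (0, 103, true), (4, 37, true), (3, 42, true), (5, 16, true), (7, 28, true), (6, 29, true), (5, 33, true), (4, 34, true), (8, 6, true), (7, 7, true), (9, 3, true), (8, 4, true), (10, 1, true), (9, 2, true), (9, 0, true)], [(1, 98, true), (0, 211, true), (1, 205, true), (7, 201, true), (6, 21, true), (5, 22, true), (7, 15, true), (6, 16, true), (8, 6, true), (7, 7, true), (9, 1, true), (8, 2, true), (8, 0, true), (8, 200, true)])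
 , ([20, 7, 14], [(0, 205, true), (6, 212, true), (5, 105, true), (4, 106, true), (3, 112, true), (2, 113, true), (1, 114, true), (0, 117, true), (5, 37, true), (4, 41, true), (3, 42, true), (6, 22, true), (5, 26, true), (4, 27, true), (5, 29, true), (4, 33, true), (6, 11, true), (7, 4, true), (8, 2, true)], [(1, 112, true), (0, 212, true), (1, 205, true), (7, 202, true), (6, 15, true), (5, 16, true), (7, 10, true), (6, 11, true), (8, 1, true), (7, 2, true), (8, 200, true), (7, 3, true)])
 , ([20, 8, 10], [(0, 206, true), (4, 208, true), (3, 105, true), (2, 106, true), (1, 113, true), (0, 117, true), (5, 55, true), (4, 56, true), (3, 61, true), (2, 63, true), (5, 21, true), (4, 24, true), (6, 3, true), (7, 1, true), (8, 0, true), (7, 2, true), (7, 1, true)], [(1, 63, true), (0, 208, true), (3, 206, true), (2, 79, true), (1, 88, true), (5, 37, true), (4, 38, true), (3, 41, true), (6, 2, true), (7, 201, true), (6, 21, true), (5, 23, true), (4, 26, true), (7, 15, true), (6, 17, true), (5, 20, true), (6, 6, true), (5, 8, true), (7, 1,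 true), (8, 0, true), (8, 198, true)])
 , ([20, 8, 11], [(0, 206, true), (4, 209, true), (3, 105, true), (2, 106, true), (1, 113, true), (0, 117, true), (5, 91, true), (4, 92, true), (3, 97, true), (2, 99, true), (1, 103, true), (5, 21, true), (4, 26, true), (6, 1, true), (7, 0, true), (6, 67, true), (5, 71, true), (4, 72, true), (3, 74, true), (5, 25, true), (6, 19, true), (10, 1, true), (9, 2, true), (9, 1, true)], [(1, 74, true), (0, 209, true), (4, 206, true), (3, 79, true), (2, 89, true), (6, 37, true), (5, 38, true), (4, 42, true), (7, 2, true), (8, 202, true), (7, 15, true), (6, 17, true), (8, 10, true), (7, 12, true), (9, 1, true)])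
 , ([20, 8, 13], [(0, 206, true), (4, 211, true), (3, 91, true), (2, 92, true), (1, 99, true), (0, 103, true), (4, 1, true), (5, 0, true)], [(1, 99, true), (0, 211, true), (1, 206, true), (5, 203, true), (4, 15, true), (3, 16, true), (6, 198, true), (5, 0, true)])
 , ([20, 8, 14], [(0, 206, true), (4, 212, true), (3, 105, true), (2, 106, true), (1, 113, true), (0, 117, true)], [(1, 113, true), (0, 212, true), (1, 206, true), (5, 204, true), (4, 21, true), (3, 22, true)])
 , ([21, 3, 14], [(0, 216, true), (1, 226, true), (0, 108, true)], [(1, 108, true), (0, 226, true), (1, 216, true), (2, 215, true), (3, 214, true), (4, 213, true)])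
 , ([21, 5, 15], [(0, 218, true), (3, 227, true), (2, 122, true), (1, 125, true), (0, 130, true), (4, 3, true)], [(1, 125, true), (0, 227, true), (1, 218, true), (4, 216, true), (3, 8, true), (5, 213, true)])
 , ([21, 5, 16], [(0, 218, true), (3, 228, true), (2, 138, true), (1, 141, true), (0, 146, true), (6, 3, true), (5, 4, true)], [(1, 141, true), (0, 228, true), (1, 218, true), (4, 217, true), (3, 12, true), (5, 216, true), (4, 8, true), (6, 214, true), (7, 213, true)])
 , ([21, 6, 15], [(0, 219, true), (3, 227, true), (2, 122, true), (1, 126, true), (0, 131, true)], [(1, 126, true), (0, 227, true), (1, 219, true), (4, 217, true), (3, 12, true)])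
 , ([21, 6, 16], [(0, 219, true), (3, 228, true), (2, 138, true), (1, 142, true), (0, 147, true), (4, 4, true)], [(1, 142, true), (0, 228, true), (1, 219, true), (4, 216, true), (3, 8, true), (5, 214, true)])
 , ([21, 8, 13], [(0, 221, true), (3, 225, true), (2, 98, true), (1, 99, true), (4, 28, true), (3, 33, true), (5, 6, true), (6, 3, true)], [(1, 99, true), (0, 225, true), (1, 221, true), (0, 133, true), (3, 36, true), (4, 28, true), (6, 218, true), (5, 55, true), (4, 62, true), (3, 63, true), (2, 65, true), (4, 28, true), (3, 31, true), (5, 0, true), (4, 18, true), (7, 213, true)])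
 , ([21, 8, 14], [(0, 221, true), (3, 226, true), (2, 112, true), (1, 113, true), (3, 34, true)], [(1, 113, true), (0, 226, true), (1, 221, true), (0, 134, true), (5, 219, true), (4, 73, true), (3, 74, true), (2, 77, true), (3, 32, true), (4, 25, true)])
 , ([21, 8, 16], [(0, 221, true), (3, 228, true), (2, 143, true), (1, 144, true), (0, 151, true), (5, 28, true), (4, 29, true), (3, 35, true)], [(1, 144, true), (0, 228, true), (1, 221, true), (4, 220, true), (3, 35, true), (3, 214, true), (4, 213, true)])
 , ([21, 9, 13], [(0, 222, true), (3, 225, true), (2, 98, true), (1, 100, true), (4, 29, true), (3, 34, true), (5, 7, true), (6, 4, true)], [(1, 100, true), (0, 225, true), (1, 222, true), (0, 149, true), (3, 46, true), (4, 29, true), (6, 219, true), (5, 67, true), (4, 73, true), (3, 75, true), (2, 77, true), (4, 29, true), (3, 31, true), (5, 2, true), (4, 24, true), (7, 214, true)])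
 , ([21, 9, 14], [(0, 222, true), (3, 226, true), (2, 112, true), (1, 114, true), (5, 29, true), (4, 33, true), (3, 34, true), (6, 11, true), (7, 4, true)], [(1, 114, true), (0, 226, true), (1, 222, true), (0, 150, true), (4, 46, true), (5, 29, true), (7, 219, true), (6, 67, true), (5, 73, true), (4, 75, true), (3, 76, true), (2, 77, true), (5, 29, true), (4, 31, true), (6, 2, true), (5, 24, true), (8, 218, true), (7, 57, true), (6, 58, true), (5, 61, true), (4, 62, true), (3, 64, true), (2, 65, true), (6, 28, true), (5, 29, true), (4, 31, true), (3, 32, true), (7, 21, true), (6, 22, true), (5, 24, true), (4, 25, true), (8, 3, true), (7, 4, true), (9, 1, true), (8, 2, true), (8, 0, true), (7, 8, true), (6, 9, true), (6, 5, true), (5, 19, true), (8, 214, true)])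
 , ([21, 13, 15], [(0, 225, true), (1, 227, true), (0, 133, true)], [(1, 133, true), (0, 227, true), (1, 225, true), (2, 223, true), (3, 213, true)])
 , ([21, 13, 16], [(0, 225, true), (1, 228, true), (0, 149, true)], [(1, 149, true), (0, 228, true), (1, 225, true), (2, 224, true), (3, 214, true)])
 ]

/-- the certificate -/
def cert : CfsgLib.Schur.TwoCert.Cert where
  n := 17
  rules := rules
  eqs := eqs
  masks := [0xa, 0x12, 0x1ff, 0x1c0, 0x1c00, 0x40, 0x442, 0x82, 0x882, 0x38000, 0x20c0, 0x48241, 0xdeec7, 0x400, 0xe00000, 0x1282400, 0x3652842, 0x2004000, 0x1400284, 0x70003d18, 0x60000, 0xa0000, 0x90000000, 0x1b0000000, 0x1800000, 0x2800000, 0x100000000, 0xa0000000, 0xc0000320, 0x140005020, 0x7001e00000, 0x4000000, 0x9000000000, 0x1b3b0018cc0, 0x10000000000, 0xa4a06000c2, 0x21000108001, 0x40008000000, 0x83830000007, 0xe00001e78092, 0x12002900180c2, 0x3600000000000, 0x2000500600c00, 0x1400000000000, 0x4242004210002, 0x8062004400000, 0x83000000000, 0x10600000000000, 0x8400008400004, 0xc40000c510004, 0x380000000000000, 0x480000000000000,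 0xd80000000000000, 0x1c0000000000000000, 0x1c0000000000004838018, 0x380000000000000000000000, 0xe00000000000000000000000000, 0x7000000000000000800000000001c00, 0x700000000000000000005000000000001d2, 0x240000000, 0x600000000000000, 0xa00000000000000, 0x240800000000002400, 0x240000000024000048108, 0x480000001080000000048040, 0x120000000000200000000120000a, 0x9000000000000000000000000000000, 0x900000000000000000041800000900000c2, 0x6c0500000000002842, 0x6c00000048000000d9118, 0xd80000002100000003600948, 0x36000000000031000000036e0888, 0x1b0000000000000041800001b0000cc0, 0x1b0000000000000000000000000000000000, 0x1200000000120020, 0x400000000000000000, 0x280000000000000000, 0x440000000, 0x400000000044002001000, 0x80000084000000000008040a, 0x2000000001000000000002000000, 0x10000000000000000000000000000000, 0x1000000000000000020c0000000100000c00, 0x280000008800001400110, 0x500001080000000001400080, 0x1400000001880000000001450080, 0xa0000000000020c00000000a00000c2, 0xa0000000000000000000000000000000000, 0x902200000004618000, 0x1100000000008800020,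 0x840000000000000000000, 0x1000000000000000000000, 0x20c0000030680030000000, 0x1200000000000000000000000, 0x4800000000000000000000000000, 0x2400000000000000c0000242d0048241, 0x2400000000000000000140048003f00deec7, 0x2200000000000000000000000, 0x8800000000000000000000000000, 0x44000000000006000000044542004000, 0x44000000000000000a0000088004e1400284, 0x6000000000180800000000, 0xa000000050000800000000, 0x210000000004180006b800000023300885f0, 0x10000100000000000000, 0xc01004000d6800250d0048201, 0x1402008b380008c000e1400204, 0x20080000020080000000000001, 0x40100020080000000000000004, 0x4000000106000000075ce3800025b300407b, 0x30000020007500000044142004000, 0x5000003008bd95f8ca001622acf11, 0x80240000010040000000000000000, 0x100460100010000100000000000000, 0x100000000020000000000000000000, 0x1804000000300a0100000000000004, 0x83000000000000000000000000000000, 0x830000000000000000000000000000000000, 0x180000000000000000000180800000000, 0x1800280000000000000000030080000000000, 0x401000000000000020080000000000001, 0x4010802000000000010040100000000000002,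 0x800000000000020000000000000000000, 0x8000c02000000000010080000000000000000, 0x2800000000000000000000050000800000000, 0x8020000000000000020080000000000000004, 0xc0200000000000000300a0100000000000004, 0x2200000000000000000000, 0x121000008001, 0xe0121000000000000000664000000233008d1dd, 0x1200000101000000000000000000000000000040, 0x3601010000000000000000000000000210018840, 0x48400000400004, 0x2000000202000000000000000000000420600402, 0x1402020000000000000000000000000000000080, 0x10600000000000000000000000000000000000000, 0x8401000000000000000080000000000001, 0x84010802000000000000040100000000000002, 0x480000100000000000004000c000188a00040249, 0x108020000000000000000080000000000000004, 0x881000000000000000008a000051000c01000294, 0x30000000000000000000000000000000000000000, 0x50000000000000000000000000000000000000000, 0x700000220023b00000000000a4400004002800596c7, 0x90000000002000000000000000000000002000180c0, 0x1b0000020000000000000000000000000009300000c7, 0x10000000000302000000000000000000083420600402, 0xa000003020000000000000000000000000420600042,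 0x83000000000000000000000000000000000000000000, 0x24000010000000000000000000014053600a000deedf, 0x4400001000128000000000008e0c0043791403604e4b, 0x180000000000000000000000000000000000000000000, 0x280000000000000000000000000000000000000000000, 0x3800000000000000000420000000000000000000000000a, 0x46000000000180000000000, 0x8c0100400096800250d0048201, 0x230000020005500000044142004000, 0x60000000000000000000088000000000000000210000040, 0xa0000000000000000220000000000000000000400000000, 0x48000000000000000000008000000001080001000040040, 0x80000000000000000020000000001000000000002000000, 0x108000000000000000000000000000000000000000000000, 0x200000000000000000000000000000000000000000000000, 0x120080000000080000000000001, 0x480240000000040000000000000000, 0x900000000000000000000000000000, 0x1c000000000000000000000c600000000000000000000000018, 0x300000000000000000000000098180000000000042630608018, 0x50000000000000000000026060000000000000006222c41841a, 0x24000000000000000000022060001008000218002600592814a, 0x40000000000000000000022068a1a00818800000460062a9401,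 0x840000000000000000000000080180000000000000000018002, 0x1000000000000000000000200600000000000000000000600000, 0xe00000000000000000000000000000000000000000000000000000, 0x1200000000000000000000404000000000000000000000000000108, 0x3600000000000000004040000000000000000000000000000001118, 0x2000000000000000000000804000000000000000000000000001000, 0x1400000000000000008040000000000000000000000000000000110, 0x420000000000000000000200000000400000002c080001290040049, 0x8000000000000000000004000010000000026000000000502000000, 0x10600000000000000080800000000000000000000000000030000000, 0x840000000000000002000000000000400002a0800004004a1000094, 0xc40000000000000004000000001000000003a0b6600400712680b2b, 0x80200000000000000000000000000000000000000000000000000000, 0x100400000000000000000000000000000000000000000000000000000]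
  gauge := [0xc010000000000000000, 0x4018000000000000000, 0x800a000000000000000, 0xc018000000000000000, 0x4000000000000000000, 0x1000800a000000000000000, 0x2000800a000000000000000, 0x200000000000008008000000000000000, 0x1200000000000008008000000000000000, 0x10000200000000000008008000000000000000, 0x200000000000000c010000000000000000, 0x4000000000000000000000000000000000, 0x0, 0x0, 0x0, 0x0, 0x0, 0x0, 0x0, 0x0, 0x0, 0x0]
  picks := [0x216f3c0, 0x2060, 0x13358c0, 0x2061, 0x2062, 0x3258b6f, 0x20, 0x20e0, 0x20c8, 0x17adafbc, 0x2000, 0x180, 0x2190, 0x24c0, 0x2f6daee4, 0x2e7ee9e4, 0x15ab565c, 0x3bd5bdb8, 0x3bc5bdb8, 0x3bf5bdb8, 0x80127399286d8c7, 0x179a979c, 0x3af57978, 0x2d6faee4, 0x2c6faee4, 0x2f6faee4, 0x80000000, 0x20000002391e97261ea7, 0xc800000, 0x4c00000, 0x848041b, 0xcc00000, 0x4000000, 0x80000000848041b, 0x2000000000000848041b, 0x40400b658b60, 0x20000800000e1e3a50bc, 0x8000007331dbae3, 0x200000000009414804bb, 0x20000800000f1e3a50bc, 0x400000000, 0x200000012727a0d4925f, 0x20000002393e97261ea7, 0x2000000040092d27ea5f, 0x10000000000000000080127299286d8c7,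 0x200000000e002127cb7f, 0x20000800070012fa707c, 0x80009802477cabd, 0x200008000f0012fa707c, 0x2000000004002127cb7f, 0x8022739072d8e9b, 0x8033e1ebe1a4f63, 0x800890033ddbb03, 0x80000000100060200000d787c4d985f2, 0x1000000000000020000003391e97261ea7, 0x201c000000000000, 0x100c000000000000, 0x3014000000000000, 0x2014000000000000, 0x1014000000000000, 0x40038152739aa76ee10, 0x0, 0x2d06180001558ede48312739329cdfe4, 0x0, 0x0, 0x6190001118cd2483127393df95564, 0x18103018000000000500, 0x810600c0000000001c0, 0x100050340000000004c0, 0x1810600c0000000001c0, 0x8000000000000000000, 0x10010006020000096ba559c, 0x20030005036391eb96c3fec, 0x4b0b080003f33999301e391e26260d71, 0x0, 0x0, 0x10000000000100c000000000000, 0xb0900033130816002391e2dc38691, 0x84020000320106d493d45, 0x4020800130a01599adbc, 0x80000804210b0d5bf3c1e, 0x840208002073e996eff54, 0x400000023937f9019568, 0x4084020000320106d493d45, 0x80000000000000000000000, 0x80000000000840208002073e996eff54, 0x180000020000860208803205e2daa46ac, 0x1080000040000860208801f76036f0d190, 0x0, 0x0, 0x40000000000002000000000000040400b658b60,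 0x310b040700e391e2cd6eb98, 0x1008c51583d27393ced98a4, 0x2103c1128b31e27103b733c, 0x310b44168071e27931b51f4, 0x100881050380000ad4fcd25, 0x22103c1128b31e27103b733c, 0x202103c1128b31e27103b733c, 0x8103143e194439309980a0320d, 0x2d061a810249d4e70c0337a982adf4df, 0x4b0b0c8102e757a0fc2730a782a878b5, 0x6110002013c9218231e2713394d3c, 0xb19000231b4c058331e27101d4735, 0x80000002d061a0001558ede48312739329cdfe4, 0x8000000000006110001118cd2483127393df95564, 0x1211c90283527393edd5a6d, 0x2013482782f1e27120a143c, 0x3202812511a391e2cd74e51, 0x1211c922835273905286314, 0x20130005036391e96039108, 0x43202812511a391e2cd74e51, 0x403202812511a391e2cd74e51, 0x201001a0101a0c0337991119bc39, 0x4b0b6810005301833c1d0eae54779463, 0x660db0100006f36df413199e0d08857f, 0xa18000310b0405012391e2ec01858, 0xf0900033130816002391e2dc38691, 0x100000004b0b480003f33999301e391e26260d71, 0x10000000000001010000000000100c000000000000, 0x2000000000000f0900033130816002391e2dc38691, 0x660d100002e4a647182b1e271c3ad7b5, 0x2d06180001578fda78212739321cdea4, 0x4b0b080003b3299d721e391e2e260901,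 0x660d100002e4a643182b1e271c3ad7b5, 0x200000000000000000000, 0x660d100082e6a743322e3909fd664801, 0x80040300442023937da6c1e6c, 0x4b1b080003b3299d600a391e2e260911, 0x14b5b080003b3099d680b1e7e9ae2b0e9, 0x0, 0x670b090003f52a957006391e23d57111, 0x40b0900033130816002391e2dc38691, 0x0, 0x0, 0x0, 0x1000106190001118cd2483127393df95564, 0x4b0b080003772b99600a391e22262831, 0x660d100002a2a54f182b1e2710faf775, 0x2d06180001d58ed64c39273932dcdf4e, 0x660d10000222a54f182b1e2710faf775, 0x4b0b080003f72999600a391e22262831, 0x1008000080c0a2eb9239a548c, 0x660d10100226974f7c2429b9869357e1, 0x2d26180001d58ed67821273932dcdf44, 0xe6bd10001266e76b102b00a9c6d902fb, 0x103d26180001d5aed67022d7679d42f180, 0x6006180001118cd2483127393df95564, 0x4606190001939dde182527393c0a28e4, 0x0, 0x29c000000000002e00209102b41e03343a00008c43fa02, 0x4e400000000000470001810314260952213797ba52578b, 0x2000200010000000000100c000000000000, 0x800200b0900033130816002391e2dc38691]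

/-- transversals -/
def orbitWords : List (Bool × ℕ × List (List ℕ)) :=
 [(false, 272, [[], [14], [13], [14, 13]])
 , (true, 1226, [[], [16], [15], [16, 15], [11], [16, 11], [15, 11], [16, 15, 11], [10], [16, 10], [15, 10], [16, 15, 10], [11, 10], [16, 11, 10], [15, 11, 10], [16, 15, 11, 10]])
 , (true, 1855, [[], [9], [8], [9, 8], [2], [9, 2], [8, 2], [9, 8, 2], [5], [4, 1], [8, 5], [8, 4, 1], [5, 2], [4, 2, 1], [8, 5, 2], [8, 4, 2, 1], [4], [5, 1], [8, 4], [8, 5, 1], [4, 2], [5, 2, 1], [8, 4, 2], [8, 5, 2, 1], [9, 1], [1], [9, 8, 1], [8, 1], [9, 2, 1], [2, 1], [9, 8, 2, 1], [8, 2, 1]])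
 , (true, 2340, [[], [12], [7], [12, 7], [3, 2], [12, 3, 2], [7, 3, 2], [12, 7, 3, 2]])
 , (true, 2758, [[], [6, 3]])
 , (true, 3374, [[], [12, 9, 7, 6, 5, 4, 2, 1]])
 , (false, 2143, [[], [0]])
 ]

/-- pairs commuting up to a central element -/
def commW : List (List ℕ × List ℕ × List ℕ) :=
 [([1], [4, 13], [9, 19]), ([1, 0], [4, 13], [20, 8])]

end CfsgLib.U6Mult
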